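import Cfsg.Prelude.Def_LocalEven
import Mathlib.GroupTheory.SpecificGroups.Alternating.Centralizer
import Cfsg.Agent.Lib.FGS.Basics
import Cfsg.Agent.Lib.OddLocal.Basic
import Cfsg.Agent.Lib.Solvable.CoprimeAction

/-!
Minimal coverings of alternating groups by groups in which the centralisers of the non-central
`p`-elements are solvable.
-/

set_option autoImplicit false

namespace CfsgLib.AltSolvCent

open Subgroup

universe u

/-- Every non-central element of `p`-power order has solvable centraliser. -/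
def SolvCentHyp (p : ℕ) (G : Type u) [Group G] : Prop :=
  ∀ x : G, x ∉ center G → (∃ k : ℕ, orderOf x = p ^ k) →
    Group.IsSolvable (centralizer ({x} : Set G))

/-- In every nontrivial elementary abelian `p`-group on which `A_n` acts without fixed points,
some non-identity element is fixed by a non-solvable subgroup. -/
def FixedVectorProp (p n : ℕ) : Prop :=
  ∀ (V : Type u) [CommGroup V] [Finite V], Nontrivial V → (∀ v : V, v ^ p = 1) →
    ∀ ρ : alternatingGroup (Fin n) →* MulAut V, (∀ v, (∀ g, ρ g v = v) → v = 1) →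
      ∃ E : Subgroup (alternatingGroup (Fin n)), ¬ Group.IsSolvable E ∧
        ∃ v : V, v ≠ 1 ∧ ∀ g ∈ E, ρ g v = v

lemma isSolvable_of_solvable_commutator {D : Type*} [Group D]
    (h : Group.IsSolvable (commutator D)) : Group.IsSolvable D := by
  haveI := h
  exact Group.isSolvable_of_ker_le_range (commutator D).subtype (Abelianization.of (G := D))
    (by rw [Abelianization.ker_of, range_subtype])

lemma commutator_le_ker_of_comm {D A : Type*} [Group D] [Group A] (c : D →* A)
    (h : ∀ a b : A, a * b = b * a) : commutator D ≤ c.ker := by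
  rw [commutator_def, Subgroup.commutator_le]
  intro a _ b _
  rw [MonoidHom.mem_ker, map_commutatorElement, commutatorElement_eq_one_iff_mul_comm]
  exact h _ _

/-- A group containing a non-solvable group as a section is not solvable. -/
lemma not_isSolvable_of_map {G : Type*} [Group G] {H : Type*} [Group H] (f : G →* H)
    (D : Subgroup G) (h : ¬ Group.IsSolvable (D.map f)) : ¬ Group.IsSolvable D := fun hD => by
  haveI := hD
  exact h (Group.isSolvable_of_surjective (f := f.subgroupMap D)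
    (f.subgroupMap_surjective D))

/-- If the commutators with `x` give a homomorphism of `D` into a commutative group, and `D` is not
solvable, then the centraliser of `x` is not solvable. -/
lemma not_isSolvable_centralizer_of_commutator {G : Type*} [Group G] (D : Subgroup G) (x : G)
    (hz : ∀ d ∈ D, x⁻¹ * (d * x * d⁻¹) ∈ center G) (hD : ¬ Group.IsSolvable D) :
    ¬ Group.IsSolvable (centralizer ({x} : Set G)) := by
  intro hC
  let c : D →* center G :=
    { toFun := fun d => ⟨x⁻¹ * ((d : G) * x * (d : G)⁻¹), hz d d.2⟩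
      map_one' := Subtype.ext (by simp)
      map_mul' := fun a b => Subtype.ext <| by
        have hb := mem_center_iff.1 (hz b b.2)
        show x⁻¹ * (((a : G) * b) * x * ((a : G) * b)⁻¹)
          = x⁻¹ * ((a : G) * x * (a : G)⁻¹) * (x⁻¹ * ((b : G) * x * (b : G)⁻¹))
        calc x⁻¹ * (((a : G) * b) * x * ((a : G) * b)⁻¹)
            = x⁻¹ * ((a : G) * x * ((x⁻¹ * ((b : G) * x * (b : G)⁻¹)) * (a : G)⁻¹)) := by group
          _ = x⁻¹ * ((a : G) * x * ((a : G)⁻¹ * (x⁻¹ * ((b : G) * x * (b : G)⁻¹)))) := by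
              rw [hb (a : G)⁻¹]
          _ = _ := by group }
  have hk : commutator D ≤ c.ker :=
    commutator_le_ker_of_comm c fun a b => Subtype.ext (mem_center_iff.1 b.2 a)
  have hcent : (commutator D).map D.subtype ≤ centralizer ({x} : Set G) := by
    rintro _ ⟨d, hd, rfl⟩
    have e : x⁻¹ * ((d : G) * x * (d : G)⁻¹) = 1 := congrArg Subtype.val (hk hd)
    have e2 : (d : G) * x * (d : G)⁻¹ = x := (inv_mul_eq_one.1 e).symm
    rw [mem_centralizer_singleton_iff]
    exact mul_inv_eq_iff_eq_mul.1 e2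
  refine hD (isSolvable_of_solvable_commutator ?_)
  haveI := hC
  haveI : Group.IsSolvable ((commutator D).map D.subtype) :=
    Group.isSolvable_of_isSolvable_injective (inclusion_injective hcent)
  exact Group.isSolvable_of_surjective
    (f := ((commutator D).equivMapOfInjective D.subtype D.subtype_injective).symm.toMonoidHom)
    (MulEquiv.surjective _)

variable {G : Type u} [Group G] [Finite G] {p : ℕ} [Fact p.Prime]

/-- The Sylow `p`-subgroup of a nilpotent normal subgroup, with the facts needed below. -/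
lemma exists_p_part (N : Subgroup G) [N.Normal] (hN : Group.IsNilpotent N) :
    ∃ P : Subgroup G, P.Normal ∧ P ≤ N ∧ IsPGroup p P ∧
      ∀ x ∈ N, (∃ k, orderOf x = p ^ k) → x ∈ P := by
  haveI := hN
  obtain ⟨S⟩ := (inferInstance : Nonempty (Sylow p N))
  have hS : ((S : Subgroup N)).Normal :=
    ((Group.isNilpotent_of_finite_tfae (G := N)).out 0 3 rfl rfl).1 hN p inferInstance S
  have hmem : ∀ x ∈ N, (∃ k, orderOf x = p ^ k) → x ∈ (S : Subgroup N).map N.subtype := by
    intro x hx ⟨k, hk⟩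
    refine ⟨⟨x, hx⟩, ?_, rfl⟩
    have h1 : orderOf (⟨x, hx⟩ : N) = p ^ k := by rw [← Subgroup.orderOf_coe]; exact hk
    exact FGS.mem_of_mem_normalizer S ⟨k, h1⟩ (by rw [normalizer_eq_top_iff.2 hS]; trivial)
  refine ⟨_, ⟨?_⟩, map_subtype_le _, S.2.map _, hmem⟩
  rintro x ⟨y, hy, rfl⟩ g
  refine hmem _ (Subgroup.Normal.conj_mem inferInstance _ y.2 g) ?_
  obtain ⟨k, hk⟩ := IsPGroup.iff_orderOf.1 S.2 ⟨y, hy⟩
  refine ⟨k, ?_⟩
  rw [← hk]
  show orderOf (MulAut.conj g ((y : G))) = _
  rw [MulEquiv.orderOf_eq, Subgroup.orderOf_coe]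
  exact Subgroup.orderOf_coe (⟨y, hy⟩ : (S : Subgroup N))

variable {n : ℕ} {f : G →* alternatingGroup (Fin n)}

/-- The main lifting step: a `p`-element over `π`, and a subgroup over the centraliser `E` of `π`
fixing it modulo the `p`-part of the kernel. -/
lemma exists_lift_mod (hf : Function.Surjective f) (P : Subgroup G) [P.Normal] (hPN : P ≤ f.ker)
    (hP : ∀ x ∈ f.ker, (∃ k, orderOf x = p ^ k) → x ∈ P) (hPp : IsPGroup p P)
    (π : alternatingGroup (Fin n)) (hπ : orderOf π = p)
    (E : Subgroup (alternatingGroup (Fin n))) (hE : ∀ e ∈ E, e * π = π * e) :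
    ∃ (x : G) (D : Subgroup G), (∃ k, orderOf x = p ^ k) ∧ f x = π ∧ D.map f = E ∧
      (∀ d ∈ D, x⁻¹ * (d * x * d⁻¹) ∈ P) ∧ P ≤ D ∧
      ∀ z ∈ P, ∃ k, orderOf (z * x) = p ^ k := by
  have hpp : p.Prime := Fact.out
  obtain ⟨y, hy⟩ := hf π
  obtain ⟨a, b, ⟨k, hk⟩, hb, hab, -⟩ := FGS.exists_p_parts p y
  have hfb : f (y ^ b) = 1 := by
    have h1 : orderOf (f (y ^ b)) ∣ p := by
      refine orderOf_dvd_of_pow_eq_one ?_
      rw [map_pow, hy, ← pow_mul, mul_comm, pow_mul, ← hπ, pow_orderOf_eq_one, one_pow]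
    have h2 : orderOf (f (y ^ b)) ∣ orderOf (y ^ b) := orderOf_map_dvd f _
    exact orderOf_eq_one_iff.1 (Nat.eq_one_of_dvd_coprimes hb h2 h1)
  have hfx : f (y ^ a) = π := by
    have := congrArg f hab
    rwa [map_mul, hfb, mul_one, hy] at this
  generalize hxd : y ^ a = x at hk hfx
  have hsupp : IsPGroup p ↥(zpowers x ⊔ P) :=
    (FGS.isPGroup_zpowers hk).to_sup_of_normal_right hPp
  set Y : Subgroup G := (zpowers π).comap f with hYdef
  have hS0 : zpowers x ⊔ P ≤ Y := by
    refine sup_le ?_ ?_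
    · rw [zpowers_le]; show f x ∈ zpowers π; rw [hfx]; exact mem_zpowers π
    · intro z hz; show f z ∈ zpowers π; rw [(hPN hz : f z = 1)]; exact one_mem _
  obtain ⟨S, hS⟩ := (IsPGroup.comap_subtype hsupp : IsPGroup p ((zpowers x ⊔ P).comap Y.subtype)).exists_le_sylow
  set M : Subgroup G := (zpowers π ⊔ E).comap f with hMdef
  have hYM : Y ≤ M := Subgroup.comap_mono le_sup_left
  set S1 : Subgroup G := (S : Subgroup Y).map Y.subtype with hS1
  have hxS : x ∈ S1 := ⟨⟨x, hS0 (le_sup_left (α := Subgroup G) (mem_zpowers x))⟩,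
    hS (le_sup_left (α := Subgroup G) (mem_zpowers x) : x ∈ zpowers x ⊔ P), rfl⟩
  have hPS : P ≤ S1 := fun z hz => ⟨⟨z, hS0 (le_sup_right (α := Subgroup G) hz)⟩,
    hS (le_sup_right (α := Subgroup G) hz : z ∈ zpowers x ⊔ P), rfl⟩
  have hS1p : IsPGroup p S1 := S.2.map _
  have hS1f : ∀ z ∈ S1, ∃ i : ℕ, f z = π ^ i := by
    rintro _ ⟨z, -, rfl⟩
    have hz : f (z : G) ∈ zpowers π := z.2
    obtain ⟨i, hi⟩ := (isOfFinOrder_of_finite π).mem_powers_iff_mem_zpowers.2 hz
    exact ⟨i, hi.symm⟩
  -- every element of `E` lifts to the normaliser of `S1`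
  have hnorm : ∀ e ∈ E, ∃ d ∈ normalizer (S1 : Set G), f d = e := by
    intro e he
    obtain ⟨g, hg⟩ := hf e
    have hgY : g ∈ normalizer (Y : Set G) := by
      rw [mem_normalizer_iff]
      intro z
      show f z ∈ zpowers π ↔ f (g * z * g⁻¹) ∈ zpowers π
      rw [map_mul, map_mul, map_inv, hg]
      constructor
      · rintro ⟨i, hi⟩
        refine ⟨i, ?_⟩
        have hc : e * π ^ i = π ^ i * e := Commute.zpow_right (hE e he) i
        simp only at hi ⊢
        rw [← hi, hc, mul_inv_cancel_right]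
      · rintro ⟨i, hi⟩
        refine ⟨i, ?_⟩
        have hc : e * π ^ i = π ^ i * e := Commute.zpow_right (hE e he) i
        simp only at hi ⊢
        have h2 : e * f z * e⁻¹ = e * π ^ i * e⁻¹ := by rw [← hi, hc, mul_inv_cancel_right]
        exact (mul_left_cancel (mul_right_cancel h2)).symm
    set W : Subgroup G := zpowers g ⊔ Y
    have hWY : W ≤ normalizer (Y : Set G) := sup_le (zpowers_le.2 hgY) le_normalizer
    haveI : (Y.subgroupOf W).Normal :=
      (normal_subgroupOf_iff_le_normalizer le_sup_right).2 hWY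
    let S' : Sylow p (Y.subgroupOf W) :=
      Sylow.mapSurjective (f := (subgroupOfEquivOfLe (le_sup_right : Y ≤ W)).symm.toMonoidHom)
        (MulEquiv.surjective _) S
    have hF := Sylow.normalizer_sup_eq_top S'
    have hgW : (⟨g, le_sup_left (α := Subgroup G) (mem_zpowers g)⟩ : W) ∈
        normalizer (((S' : Subgroup (Y.subgroupOf W)).map (Y.subgroupOf W).subtype : Subgroup W) : Set W) ⊔
          Y.subgroupOf W := by rw [hF]; trivial
    rw [← SetLike.mem_coe, mul_normal] at hgW
    obtain ⟨d, hd, z, hz, hdz⟩ := hgW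
    have hSS : ((S' : Subgroup (Y.subgroupOf W)).map (Y.subgroupOf W).subtype) = S1.subgroupOf W := by
      ext w
      simp only [mem_map, mem_subgroupOf, hS1]
      constructor
      · rintro ⟨_, ⟨s, hs, rfl⟩, rfl⟩
        exact ⟨s, hs, rfl⟩
      · rintro ⟨s, hs, hsw⟩
        exact ⟨(subgroupOfEquivOfLe (le_sup_right : Y ≤ W)).symm s, ⟨s, hs, rfl⟩, Subtype.ext hsw⟩
    rw [hSS] at hd
    have hdN : (d : G) ∈ normalizer (S1 : Set G) := by
      rw [mem_normalizer_iff]
      intro s
      have hS1W : S1 ≤ W := fun t ⟨t', _, ht⟩ => ht ▸ le_sup_right (α := Subgroup G) t'.2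
      constructor
      · intro hs
        exact (mem_normalizer_iff.1 hd ⟨s, hS1W hs⟩).1 hs
      · intro hs
        have hw : s ∈ W := by
          have : s = (d : G)⁻¹ * ((d : G) * s * (d : G)⁻¹) * d := by group
          rw [this]; exact mul_mem (mul_mem (inv_mem d.2) (hS1W hs)) d.2
        exact (mem_normalizer_iff.1 hd ⟨s, hw⟩).2 hs
    obtain ⟨i, hi⟩ := (hz : f (z : G) ∈ zpowers π)
    have hxi : x ^ i ∈ normalizer (S1 : Set G) := le_normalizer (zpow_mem hxS i)
    refine ⟨d * x ^ i, mul_mem hdN hxi, ?_⟩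
    have h3 := congrArg (fun w : W => f (w : G)) hdz
    simp only [Subgroup.coe_mul, map_mul, hg] at h3
    simp only at hi
    rw [map_mul, map_zpow, hfx, hi]
    exact h3
  refine ⟨x, normalizer (S1 : Set G) ⊓ E.comap f, ⟨k, hk⟩, hfx, ?_, ?_, ?_, ?_⟩
  · refine le_antisymm ?_ fun e he => ?_
    · rintro _ ⟨d, hd, rfl⟩; exact hd.2
    · obtain ⟨d, hd, hde⟩ := hnorm e he
      exact ⟨d, ⟨hd, by show f d ∈ E; rw [hde]; exact he⟩, hde⟩
  · rintro d ⟨hd1, hd2⟩
    have h1 : x⁻¹ * (d * x * d⁻¹) ∈ S1 :=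
      mul_mem (inv_mem hxS) ((mem_normalizer_iff.1 hd1 x).1 hxS)
    refine hP _ ?_ ?_
    · rw [MonoidHom.mem_ker, map_mul, map_mul, map_mul, map_inv, map_inv, hfx, hE _ hd2]
      group
    · obtain ⟨j, hj⟩ := IsPGroup.iff_orderOf.1 hS1p ⟨_, h1⟩
      exact ⟨j, by rw [← hj]; exact (Subgroup.orderOf_mk _ _).symm⟩
  · exact le_inf (hPS.trans le_normalizer) fun z hz => by
      show f z ∈ E; rw [(hPN hz : f z = 1)]; exact one_mem _
  · intro z hz
    obtain ⟨j, hj⟩ := IsPGroup.iff_orderOf.1 hS1p ⟨_, mul_mem (hPS hz) hxS⟩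
    exact ⟨j, by rw [← hj]; exact (Subgroup.orderOf_mk _ _).symm⟩

/-- No minimal cover of `A_n` (with room for a `p`-element centralising a non-solvable subgroup)
has solvable centralisers of non-central `p`-elements. -/
theorem false_of_cover (hn : 5 ≤ n) (hf : Function.Surjective f) (hker : Group.IsNilpotent f.ker)
    (hperf : commutator G = ⊤) (h : SolvCentHyp p G)
    (π : alternatingGroup (Fin n)) (hπ : orderOf π = p)
    (E : Subgroup (alternatingGroup (Fin n))) (hE : ∀ e ∈ E, e * π = π * e)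
    (hEns : ¬ Group.IsSolvable E)
    (hcase : (Nat.card E).Coprime p ∨ FixedVectorProp.{u} p n) : False := by
  have hpp : p.Prime := Fact.out
  obtain ⟨P, hPn, hPN, hPp, hP⟩ := exists_p_part (p := p) f.ker hker
  haveI := hPn
  have hπc : π ∉ center (alternatingGroup (Fin n)) := by
    rw [alternatingGroup.center_eq_bot (by simpa using (by omega : 4 ≤ n))]
    intro h1
    rw [mem_bot.1 h1, orderOf_one] at hπ
    exact hpp.one_lt.ne hπ
  obtain ⟨x, D, hxp, hfx, hDE, hDx, hPD, hPx⟩ := exists_lift_mod hf P hPN hP hPp π hπ E hE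
  have hnc : ∀ w : G, f w = π → w ∉ center G := fun w hw hc => hπc <| by
    rw [mem_center_iff] at hc ⊢
    intro g
    obtain ⟨g', rfl⟩ := hf g
    rw [← hw, ← map_mul, ← map_mul, hc g']
  by_cases hPZ : P ≤ center G
  · -- central `p`-part
    refine not_isSolvable_centralizer_of_commutator D x (fun d hd => hPZ (hDx d hd)) ?_
      (h x (hnc x hfx) hxp)
    exact not_isSolvable_of_map f D (by rw [hDE]; exact hEns)
  rcases hcase with hcop | hfix
  · -- coprime case
    obtain ⟨C, hC⟩ := exists_right_complement'_of_coprime (N := P.subgroupOf D) (by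
      have hcardP : Nat.card (P.subgroupOf D) = Nat.card P := Nat.card_congr (subgroupOfEquivOfLe hPD).toEquiv
      rw [hcardP]
      obtain ⟨i, hi⟩ := IsPGroup.iff_card.1 hPp
      rw [hi]
      refine Nat.Coprime.pow_left _ ((hpp.coprime_iff_not_dvd).2 fun hdvd => ?_)
      -- the index of `P` in `D` has no factor `p`
      obtain ⟨q, hq⟩ := exists_prime_orderOf_dvd_card' (G := D ⧸ P.subgroupOf D) p
        (by rwa [← index_eq_card])
      obtain ⟨d, rfl⟩ := QuotientGroup.mk_surjective q
      have hfd : f (d : G) ^ p = 1 := by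
        have h1 : (QuotientGroup.mk (d ^ p) : D ⧸ P.subgroupOf D) = 1 := by
          rw [QuotientGroup.mk_pow, ← hq, pow_orderOf_eq_one]
        have h2 : ((d ^ p : D) : G) ∈ P := (QuotientGroup.eq_one_iff (d ^ p)).1 h1
        rw [← map_pow]; simpa using hPN h2
      have hfdE : f (d : G) ∈ E := hDE ▸ mem_map_of_mem f d.2
      have hd1 : f (d : G) = 1 := by
        have h3 : orderOf (f (d : G)) ∣ Nat.card E :=
          Subgroup.orderOf_dvd_natCard E hfdE
        exact orderOf_eq_one_iff.1 (Nat.eq_one_of_dvd_coprimes hcop h3 (orderOf_dvd_of_pow_eq_one hfd))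
      -- a `p`-part of `d` lies in `P`
      obtain ⟨a, b, ⟨j, hj⟩, hb, hab, -⟩ := FGS.exists_p_parts p (d : G)
      have haP : (d : G) ^ a ∈ P := hP _ (pow_mem (MonoidHom.mem_ker.2 hd1) a) ⟨j, hj⟩
      have hbP : (QuotientGroup.mk (d ^ b) : D ⧸ P.subgroupOf D) = QuotientGroup.mk d := by
        rw [QuotientGroup.eq, mem_subgroupOf, Subgroup.coe_mul, Subgroup.coe_inv, SubmonoidClass.coe_pow]
        have e : ((d : G) ^ b)⁻¹ * (d : G) = (d : G) ^ a := by
          rw [inv_mul_eq_iff_eq_mul]
          conv_lhs => rw [← hab]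
          rw [← pow_add, ← pow_add, add_comm]
        rw [e]; exact haP
      have h4 : p ∣ orderOf ((d : G) ^ b) := by
        rw [show orderOf ((d : G) ^ b) = orderOf (d ^ b) by
          rw [← SubmonoidClass.coe_pow]; exact Subgroup.orderOf_coe _]
        have h5 := orderOf_map_dvd (QuotientGroup.mk' (P.subgroupOf D)) (d ^ b)
        rwa [QuotientGroup.mk'_apply, hbP, hq] at h5
      exact hpp.one_lt.ne' (Nat.eq_one_of_dvd_coprimes hb h4 dvd_rfl))
    have hcardC : (Nat.card (C.map D.subtype)).Coprime (Nat.card P) := by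
      rw [Subgroup.card_subtype]
      have h1 : Nat.card C = (P.subgroupOf D).index := hC.symm.index_eq_card.symm
      obtain ⟨i, hi⟩ := IsPGroup.iff_card.1 hPp
      rw [hi]
      refine Nat.Coprime.pow_right _ ((hpp.coprime_iff_not_dvd).2 fun hdvd => ?_).symm
      obtain ⟨c, hc⟩ := exists_prime_orderOf_dvd_card' (G := C) p hdvd
      have hcG : orderOf (((c : D) : G)) = p := by
        rw [Subgroup.orderOf_coe, Subgroup.orderOf_coe, hc]
      have h2 : f ((c : D) : G) = 1 := by
        have h3 : orderOf (f ((c : D) : G)) ∣ p := hcG ▸ orderOf_map_dvd f _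
        have h4 : orderOf (f ((c : D) : G)) ∣ Nat.card E :=
          Subgroup.orderOf_dvd_natCard E (hDE ▸ mem_map_of_mem f (c : D).2)
        exact orderOf_eq_one_iff.1 (Nat.eq_one_of_dvd_coprimes hcop h4 h3)
      have h5 : ((c : D) : G) ∈ P := hP _ (MonoidHom.mem_ker.2 h2) ⟨1, by rw [hcG, pow_one]⟩
      have h6 : (c : D) ∈ P.subgroupOf D ⊓ C := ⟨h5, c.2⟩
      rw [hC.disjoint.eq_bot] at h6
      have h7 : orderOf c = 1 := by
        rw [← Subgroup.orderOf_coe, mem_bot.1 h6, orderOf_one]
      exact hpp.one_lt.ne' (hc.symm.trans h7)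
    obtain ⟨z, hz, hzc⟩ := CfsgLib.Solvable.exists_mul_mem_centralizer (C.map D.subtype) P
      le_normalizer_of_normal hcardC
      (Or.inr (by haveI := hPp.isNilpotent; infer_instance)) x (by
        rintro _ ⟨c, -, rfl⟩
        have h1 := hDx c c.2
        have h2 : x * (x⁻¹ * ((c : G) * x * (c : G)⁻¹)) * x⁻¹ ∈ P :=
          Subgroup.Normal.conj_mem inferInstance _ h1 x
        rw [commutatorElement_def]
        show (c : G) * x * (c : G)⁻¹ * x⁻¹ ∈ P
        simpa [mul_assoc] using h2)
    refine (?_ : ¬ Group.IsSolvable (centralizer ({z * x} : Set G)))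
      (h (z * x) (hnc _ (by rw [map_mul, (hPN hz : f z = 1), hfx, one_mul])) (hPx z hz))
    intro hs
    refine not_isSolvable_of_map f (C.map D.subtype) ?_ ?_
    · suffices h1 : (C.map D.subtype).map f = E by rw [h1]; exact hEns
      refine le_antisymm ?_ fun e he => ?_
      · rw [← hDE]; exact map_mono (map_subtype_le C)
      · rw [← hDE] at he
        obtain ⟨d, hd, rfl⟩ := he
        obtain ⟨⟨q, c⟩, hqc⟩ := hC.2 ⟨d, hd⟩
        refine ⟨((c : D) : G), ⟨c, c.2, rfl⟩, ?_⟩
        have h2 := congrArg (fun w : D => f (w : G)) hqc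
        simp only [Subgroup.coe_mul, map_mul] at h2
        rw [(hPN q.2 : f ((q : D) : G) = 1), one_mul] at h2
        exact h2
    · haveI := hs
      have hle : C.map D.subtype ≤ centralizer ({z * x} : Set G) := fun c hc => by
        rw [mem_centralizer_singleton_iff]
        exact (mem_centralizer_iff.1 hzc c hc)
      exact Group.isSolvable_of_isSolvable_injective (inclusion_injective hle)
  · -- a non-central bottom layer
    set Z0 : Subgroup G := P ⊓ center G with hZ0
    haveI : Z0.Normal := inferInstance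
    set q := QuotientGroup.mk' Z0 with hq
    set P' : Subgroup (G ⧸ Z0) := P.map q with hP'
    haveI : P'.Normal := Subgroup.Normal.map inferInstance q (QuotientGroup.mk'_surjective Z0)
    have hP'p : IsPGroup p P' := hPp.map q
    let V : Subgroup (G ⧸ Z0) :=
      { carrier := {v | v ∈ P' ∧ v ^ p = 1 ∧ ∀ w ∈ P', w * v = v * w}
        one_mem' := ⟨one_mem _, one_pow _, fun w _ => by simp⟩
        mul_mem' := fun {a b} ha hb => ⟨mul_mem ha.1 hb.1, by
          rw [Commute.mul_pow (hb.2.2 a ha.1), ha.2.1, hb.2.1, one_mul],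
          fun w hw => by rw [← mul_assoc, ha.2.2 w hw, mul_assoc, hb.2.2 w hw, ← mul_assoc]⟩
        inv_mem' := fun {a} ha => ⟨inv_mem ha.1, by rw [inv_pow, ha.2.1, inv_one],
          fun w hw => (Commute.inv_right (ha.2.2 w hw)).eq⟩ }
    haveI hVn : V.Normal := ⟨fun v hv g => ⟨Subgroup.Normal.conj_mem inferInstance _ hv.1 g,
      by rw [conj_pow, hv.2.1, mul_one, mul_inv_cancel], fun w hw => by
        have h1 := hv.2.2 (g⁻¹ * w * g) (by
          simpa using Subgroup.Normal.conj_mem (H := P') inferInstance w hw g⁻¹)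
        calc w * (g * v * g⁻¹) = g * ((g⁻¹ * w * g) * v) * g⁻¹ := by group
          _ = g * (v * (g⁻¹ * w * g)) * g⁻¹ := by rw [h1]
          _ = _ := by group⟩⟩
    haveI : Nontrivial V := by
      have hne : P' ≠ ⊥ := by
        intro hb
        rw [hP', Subgroup.map_eq_bot_iff, hq, QuotientGroup.ker_mk'] at hb
        exact hPZ (hb.trans inf_le_right)
      haveI : Nontrivial P' := (nontrivial_iff_ne_bot P').2 hne
      haveI := hP'p.center_nontrivial
      have hd : p ∣ Nat.card (center P') :=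
        ((hP'p.to_subgroup (center P')).nontrivial_iff_card.1 inferInstance).elim
          fun i hi => hi.2 ▸ dvd_pow_self p hi.1.ne'
      obtain ⟨c, hc⟩ := exists_prime_orderOf_dvd_card' (G := center P') p hd
      refine ⟨⟨⟨((c : P') : G ⧸ Z0), (c : P').2, ?_, fun w hw => ?_⟩, 1, fun e => ?_⟩⟩
      · rw [← SubmonoidClass.coe_pow, ← SubmonoidClass.coe_pow, ← hc, pow_orderOf_eq_one]; rfl
      · exact congrArg Subtype.val (mem_center_iff.1 c.2 ⟨w, hw⟩)
      · have e1 : c = 1 := Subtype.ext (Subtype.ext (congrArg Subtype.val e :))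
        rw [e1, orderOf_one] at hc
        exact hpp.one_lt.ne hc
    haveI : IsMulCommutative V := ⟨⟨fun a b => Subtype.ext (b.2.2.2 a a.2.1)⟩⟩
    letI : CommGroup V := { (inferInstance : Group V) with mul_comm := fun a b => Subtype.ext (b.2.2.2 a a.2.1) }
    let α : G →* MulAut V := (MulAut.conjNormal (H := V)).comp q
    have hαker : f.ker ≤ α.ker := by
      intro m hm
      refine MonoidHom.mem_ker.2 (MulEquiv.ext fun v => Subtype.ext ?_)
      show q m * (v : G ⧸ Z0) * (q m)⁻¹ = (v : G ⧸ Z0)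
      obtain ⟨w, hw, hwv⟩ := v.2.1
      obtain ⟨a, b, ⟨j, hj⟩, hb, hab, -⟩ := FGS.exists_p_parts p m
      have haP : m ^ a ∈ P := hP _ (pow_mem hm a) ⟨j, hj⟩
      have hbw : m ^ b * w = w * m ^ b := by
        obtain ⟨i, hi⟩ := IsPGroup.iff_orderOf.1 hPp ⟨w, hw⟩
        refine CfsgLib.OddLocal.commute_of_mem_nilpotent hker (pow_mem hm b) (hPN hw) ?_
        rw [show orderOf w = p ^ i by rw [← hi]; exact (Subgroup.orderOf_mk w hw).symm]
        exact hb.pow_right i
      have hc1 : q (m ^ a) * v = v * q (m ^ a) := v.2.2.2 _ (mem_map_of_mem q haP)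
      have hc2 : q (m ^ b) * (v : G ⧸ Z0) = v * q (m ^ b) := by
        rw [← hwv, ← map_mul, ← map_mul, hbw]
      rw [mul_inv_eq_iff_eq_mul, ← hab, map_mul]
      exact (Commute.mul_left (show Commute (q (m ^ a)) (v : G ⧸ Z0) from hc1)
        (show Commute (q (m ^ b)) (v : G ⧸ Z0) from hc2)).eq
    let ρ : alternatingGroup (Fin n) →* MulAut V := f.liftOfSurjective hf ⟨α, hαker⟩
    have hρ : ∀ g, ρ (f g) = α g := fun g =>
      MonoidHom.liftOfRightInverse_comp_apply f _ _ ⟨α, hαker⟩ g
    -- lift of a fixed vector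
    have hlift : ∀ (v : V) (D : Subgroup G), (∀ d ∈ D, α d v = v) → ∀ w ∈ P, q w = (v : G ⧸ Z0) →
        ∀ d ∈ D, w⁻¹ * (d * w * d⁻¹) ∈ center G := by
      intro v D hD w _ hwv d hd
      have e : q (d * w * d⁻¹) = q w := by
        rw [map_mul, map_mul, map_inv, hwv]
        exact congrArg Subtype.val (hD d hd)
      exact ((QuotientGroup.mk'_eq_mk' Z0).1 e.symm).elim fun z hz => by
        rw [← hz.2, inv_mul_cancel_left]; exact hz.1.2
    have hnofix : ∀ v : V, (∀ g, ρ g v = v) → v = 1 := by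
      intro v hv
      obtain ⟨w, hw, hwv⟩ := v.2.1
      have hz := hlift v ⊤ (fun d _ => by rw [← hρ]; exact hv _) w hw hwv
      let c : G →* center G :=
        { toFun := fun d => ⟨w⁻¹ * (d * w * d⁻¹), hz d (mem_top d)⟩
          map_one' := Subtype.ext (by simp)
          map_mul' := fun a b => Subtype.ext <| by
            have hb := mem_center_iff.1 (hz b (mem_top b))
            calc w⁻¹ * ((a * b) * w * (a * b)⁻¹)
                = w⁻¹ * (a * w * ((w⁻¹ * (b * w * b⁻¹)) * a⁻¹)) := by group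
              _ = w⁻¹ * (a * w * (a⁻¹ * (w⁻¹ * (b * w * b⁻¹)))) := by rw [hb a⁻¹]
              _ = w⁻¹ * (a * w * a⁻¹) * (w⁻¹ * (b * w * b⁻¹)) := by group }
      have hk : commutator G ≤ c.ker :=
        commutator_le_ker_of_comm c fun a b => Subtype.ext (mem_center_iff.1 b.2 a)
      rw [hperf] at hk
      have hwc : w ∈ center G := mem_center_iff.2 fun g => by
        have e : w⁻¹ * (g * w * g⁻¹) = 1 := congrArg Subtype.val (hk (mem_top g))
        exact mul_inv_eq_iff_eq_mul.1 (inv_mul_eq_one.1 e).symm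
      refine Subtype.ext ?_
      rw [← hwv]
      exact (QuotientGroup.eq_one_iff w).2 ⟨hw, hwc⟩
    obtain ⟨E', hE', v, hv1, hvE⟩ :=
      hfix V inferInstance (fun v => Subtype.ext v.2.2.1) ρ hnofix
    obtain ⟨w, hw, hwv⟩ := v.2.1
    have hwc : w ∉ center G := fun hc => hv1 <| Subtype.ext <| by
      rw [← hwv]; exact (QuotientGroup.eq_one_iff w).2 ⟨hw, hc⟩
    obtain ⟨i, hi⟩ := IsPGroup.iff_orderOf.1 hPp ⟨w, hw⟩
    refine not_isSolvable_centralizer_of_commutator (E'.comap f) w
      (hlift v _ (fun d hd => by rw [← hρ]; exact hvE _ hd) w hw hwv) ?_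
      (h w hwc ⟨i, by rw [← hi]; exact (Subgroup.orderOf_mk w hw).symm⟩)
    exact not_isSolvable_of_map f _ (by rw [map_comap_eq_self_of_surjective hf]; exact hE')

end CfsgLib.AltSolvCent
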