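import Mathlib.Data.Matrix.Basic
import Mathlib.Data.ZMod.Basic
import Mathlib.Algebra.BigOperators.Fin
import Mathlib.Algebra.Algebra.Basic
import Mathlib.Algebra.Module.BigOperators
import Mathlib.Data.List.GetD

/-!
Arithmetic in the group algebra of a group of order sixty over `ZMod 5`, given by tables, and
certificates in the permutation module on pairs of cosets of a subgroup of order five.

Vectors are numbers with four bits per coefficient.
-/

set_option autoImplicit false

namespace CfsgLib.AltSolvCent.Five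

/-- A coefficient of a coded vector. -/
def vget (u i : ℕ) : ℕ := (u >>> (4 * i)) % 16

/-- The tables of a group of order sixty with a subgroup of order five. -/
structure Tables where
  mulT : ℕ
  invT : ℕ
  cosT : ℕ
  powT : ℕ
  repT : ℕ
  pwT : ℕ

namespace Tables

variable (T : Tables)

/-- Product. -/
def mt (i j : ℕ) : ℕ := (T.mulT >>> (6 * (60 * i + j))) % 64
/-- Inverse. -/
def iv (i : ℕ) : ℕ := (T.invT >>> (6 * i)) % 64
/-- Coset. -/
def cos (i : ℕ) : ℕ := (T.cosT >>> (6 * i)) % 64
/-- Exponent in the coset. -/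
def pow (i : ℕ) : ℕ := (T.powT >>> (6 * i)) % 64
/-- Representative. -/
def rep (i : ℕ) : ℕ := (T.repT >>> (6 * i)) % 64
/-- Powers of the generator of order five. -/
def pw (i : ℕ) : ℕ := (T.pwT >>> (6 * i)) % 64
/-- Left division. -/
def ldiv (i k : ℕ) : ℕ := T.mt (T.iv i) k

/-- The tables are consistent. -/
def check : Bool :=
  (List.range 60).all (fun i => decide (T.iv i < 60) && decide (T.cos i < 12) && decide (T.pow i < 5) &&
    Nat.beq (T.mt (T.rep (T.cos i)) (T.pw (T.pow i))) i && Nat.beq (T.mt 0 i) i &&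
    (List.range 60).all (fun j => decide (T.mt i j < 60) && Nat.beq (T.ldiv i (T.mt i j)) j &&
      Nat.beq (T.mt i (T.ldiv i j)) j) &&
    (List.range 12).all (fun c => decide (T.rep c < 60) &&
      Nat.beq (T.cos (T.mt (T.iv i) (T.rep (T.cos (T.mt i (T.rep c)))))) c &&
      Nat.beq (T.cos (T.mt i (T.rep (T.cos (T.mt (T.iv i) (T.rep c)))))) c)) &&
  (List.range 5).all (fun k => decide (T.pw k < 60)) && Nat.beq (T.pw 0) 0 && Nat.beq (T.rep 0) 0 &&
    (List.range 4).all (fun k => Nat.beq (T.pw (k + 1)) (T.mt (T.pw 1) (T.pw k)))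

/-- A coefficient of a product in the group algebra. -/
def convAt (u v k : ℕ) : ℕ :=
  (List.range 60).foldr
    (fun i acc => if Nat.beq (vget u i) 0 then acc else vget u i * vget v (T.ldiv i k) + acc) 0

/-- An equation between a product and a linear combination. -/
def convEq (u v : ℕ) (w : List (ℕ × ℕ)) : Bool :=
  (List.range 60).all fun k => Nat.beq (T.convAt u v k % 5)
    ((w.foldr (fun p acc => p.1 * vget p.2 k + acc) 0) % 5)

/-- An equation between a sum of products and a vector. -/
def convSumEq (ps : List (ℕ × ℕ)) (w : ℕ) : Bool :=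
  (List.range 60).all fun k => Nat.beq ((ps.foldr (fun p acc => T.convAt p.1 p.2 k + acc) 0) % 5)
    (vget w k % 5)

/-- The image of a pair of cosets under a pair of elements. -/
def move (a b x : ℕ) : ℕ :=
  T.cos (T.mt a (T.rep (x / 12))) * 12 + T.cos (T.mt b (T.rep (x % 12)))

/-- The coefficient at `x` of a translated vector. -/
def transAt (a b c x : ℕ) : ℕ := vget c (T.move (T.iv a) (T.iv b) x)

end Tables

/-- A term of a combination: step, pair of elements, coefficient. -/
abbrev Combo : Type := List (ℕ × ℕ × ℕ × ℕ)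

/-- A step: a vector fixed, modulo translates of the earlier ones, by the pairs of a kind. -/
structure CosStep where
  vec : ℕ
  kind : ℕ
  just : List Combo

namespace Tables

variable (T : Tables)

/-- The coefficient at `x` of a combination. -/
def comboAt (ws : List ℕ) (c : Combo) (x : ℕ) : ℕ :=
  c.foldr (fun t acc => t.2.2.2 * T.transAt t.2.1 t.2.2.1 (ws.getD t.1 0) x + acc) 0

/-- The combination uses only earlier steps. -/
def comboOk (n : ℕ) (c : Combo) : Bool :=
  c.all fun t => decide (t.1 < n) && decide (t.2.1 < 60) && decide (t.2.2.1 < 60)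

/-- All justifications of a step. -/
def justOk (ws : List ℕ) (w : ℕ) : List (ℕ × ℕ) → List Combo → Bool
  | [], [] => true
  | (a, b) :: gs, c :: cs =>
    decide (a < 60) && decide (b < 60) && comboOk ws.length c &&
      (List.range 144).all (fun x =>
        Nat.beq (T.transAt a b w x % 5) ((vget w x + T.comboAt ws c x) % 5)) &&
      justOk ws w gs cs
  | _, _ => false

/-- All steps. -/
def stepsOk (kinds : List (List (ℕ × ℕ))) : List ℕ → List CosStep → Bool
  | _, [] => true
  | ws, s :: ss =>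
    decide (s.kind < kinds.length) && T.justOk ws s.vec (kinds.getD s.kind []) s.just &&
      stepsOk kinds (ws ++ [s.vec]) ss

/-- The final combination is the base point. -/
def finalOk (ws : List ℕ) (c : Combo) : Bool :=
  comboOk ws.length c &&
    (List.range 144).all fun x => Nat.beq (T.comboAt ws c x % 5) (if Nat.beq x 0 then 1 else 0)

end Tables

variable {n : Type*} [Fintype n] [DecidableEq n]

/-- A representation of the table group by matrices. -/
structure TableRep (T : Tables) (n : Type*) [Fintype n] [DecidableEq n] where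
  R : ℕ → Matrix n n (ZMod 5)
  mul : ∀ i j, i < 60 → j < 60 → R i * R j = R (T.mt i j)
  one : R 0 = 1

variable {T : Tables}

/-- The matrix of a coded element of the group algebra. -/
def TableRep.act (S : TableRep T n) (u : ℕ) : Matrix n n (ZMod 5) :=
  ∑ i ∈ Finset.range 60, (vget u i : ZMod 5) • S.R i

lemma cast_eq_of_beq {a b : ℕ} (h : Nat.beq (a % 5) (b % 5) = true) :
    (a : ZMod 5) = (b : ZMod 5) :=
  (ZMod.natCast_eq_natCast_iff' a b 5).2 (Nat.eq_of_beq_eq_true h)

lemma sum_map_range {A : Type*} [AddCommMonoid A] (f : ℕ → A) :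
    ∀ m, ((List.range m).map f).sum = ∑ i ∈ Finset.range m, f i
  | 0 => by simp
  | m + 1 => by
    rw [List.range_succ, List.map_append, List.sum_append, Finset.sum_range_succ, sum_map_range f m]
    simp

lemma foldr_add_eq_sum {α : Type*} (f : α → ℕ) :
    ∀ l : List α, l.foldr (fun p acc => f p + acc) 0 = (l.map f).sum
  | [] => rfl
  | a :: l => by simp [foldr_add_eq_sum f l]

lemma Tables.spec (hT : T.check = true) :
    (∀ i, i < 60 → T.iv i < 60 ∧ T.cos i < 12 ∧ T.pow i < 5 ∧
      T.mt (T.rep (T.cos i)) (T.pw (T.pow i)) = i ∧ T.mt 0 i = i) ∧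
    (∀ i j, i < 60 → j < 60 → T.mt i j < 60 ∧ T.ldiv i (T.mt i j) = j ∧ T.mt i (T.ldiv i j) = j) ∧
    (∀ c, c < 12 → T.rep c < 60) ∧
    (∀ i c, i < 60 → c < 12 →
      T.cos (T.mt (T.iv i) (T.rep (T.cos (T.mt i (T.rep c))))) = c ∧
      T.cos (T.mt i (T.rep (T.cos (T.mt (T.iv i) (T.rep c))))) = c) ∧
    (∀ k, k < 5 → T.pw k < 60) ∧ T.pw 0 = 0 ∧ ∀ k, k < 4 → T.pw (k + 1) = T.mt (T.pw 1) (T.pw k) := by
  simp only [Tables.check, Bool.and_eq_true, List.all_eq_true, List.mem_range,
    decide_eq_true_eq] at hT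
  obtain ⟨⟨⟨⟨h1, h2⟩, h3⟩, -⟩, h4⟩ := hT
  refine ⟨fun i hi => ?_, fun i j hi hj => ?_, fun c hc => ?_, fun i c hi hc => ?_, h2,
    Nat.eq_of_beq_eq_true h3, fun k hk => Nat.eq_of_beq_eq_true (h4 k hk)⟩
  · obtain ⟨⟨⟨⟨⟨⟨a, b⟩, c⟩, d⟩, e⟩, -⟩, -⟩ := h1 i hi
    exact ⟨a, b, c, Nat.eq_of_beq_eq_true d, Nat.eq_of_beq_eq_true e⟩
  · obtain ⟨⟨-, hj'⟩, -⟩ := h1 i hi
    obtain ⟨⟨a, b⟩, c⟩ := hj' j hj
    exact ⟨a, Nat.eq_of_beq_eq_true b, Nat.eq_of_beq_eq_true c⟩
  · exact ((h1 0 (by norm_num)).2 c hc).1.1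
  · obtain ⟨⟨-, b⟩, e⟩ := (h1 i hi).2 c hc
    exact ⟨Nat.eq_of_beq_eq_true b, Nat.eq_of_beq_eq_true e⟩

lemma Tables.rep_zero (hT : T.check = true) : T.rep 0 = 0 := by
  simp only [Tables.check, Bool.and_eq_true] at hT
  exact Nat.eq_of_beq_eq_true hT.1.2

lemma Tables.cast_convAt (u v k : ℕ) :
    (T.convAt u v k : ZMod 5) =
      ∑ i ∈ Finset.range 60, (vget u i : ZMod 5) * (vget v (T.ldiv i k) : ZMod 5) := by
  have e : ∀ l : List ℕ, l.foldr
      (fun i acc => if Nat.beq (vget u i) 0 then acc else vget u i * vget v (T.ldiv i k) + acc) 0 =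
      (l.map fun i => vget u i * vget v (T.ldiv i k)).sum := by
    intro l
    induction l with
    | nil => rfl
    | cons i l ih =>
      rw [List.foldr_cons, List.map_cons, List.sum_cons, ih]
      cases h : Nat.beq (vget u i) 0
      · simp
      · simp [Nat.eq_of_beq_eq_true h]
  rw [Tables.convAt, e, sum_map_range, Nat.cast_sum]
  exact Finset.sum_congr rfl fun i _ => Nat.cast_mul _ _

lemma TableRep.act_mul (S : TableRep T n) (hT : T.check = true) (u v : ℕ) :
    S.act u * S.act v = ∑ k ∈ Finset.range 60, (T.convAt u v k : ZMod 5) • S.R k := by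
  obtain ⟨h1, h2, -⟩ := Tables.spec hT
  simp only [Tables.cast_convAt, Finset.sum_smul]
  rw [Finset.sum_comm, TableRep.act, Finset.sum_mul]
  refine Finset.sum_congr rfl fun i hi => ?_
  rw [Finset.mem_range] at hi
  rw [TableRep.act, Finset.mul_sum]
  refine Finset.sum_nbij' (fun j => T.mt i j) (fun k => T.ldiv i k) ?_ ?_ ?_ ?_ ?_
  · intro j hj
    exact Finset.mem_coe.2 (Finset.mem_range.2 (h2 i j hi (Finset.mem_range.1 hj)).1)
  · intro k hk
    exact Finset.mem_coe.2 (Finset.mem_range.2
      (h2 (T.iv i) k (h1 i hi).1 (Finset.mem_range.1 hk)).1)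
  · intro j hj
    exact (h2 i j hi (Finset.mem_range.1 hj)).2.1
  · intro k hk
    exact (h2 i k hi (Finset.mem_range.1 hk)).2.2
  · intro j hj
    have hj' := Finset.mem_range.1 hj
    simp only [(h2 i j hi hj').2.1]
    rw [smul_mul_smul_comm, S.mul i j hi hj']

lemma TableRep.act_mul_eq (S : TableRep T n) (hT : T.check = true) {u v : ℕ} {w : List (ℕ × ℕ)}
    (h : T.convEq u v w = true) :
    S.act u * S.act v = (w.map fun p => (p.1 : ZMod 5) • S.act p.2).sum := by
  rw [S.act_mul hT]
  simp only [Tables.convEq, List.all_eq_true, List.mem_range, foldr_add_eq_sum] at h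
  have e : ∀ k ∈ Finset.range 60, (T.convAt u v k : ZMod 5) • S.R k =
      (w.map fun p => ((p.1 : ZMod 5) * (vget p.2 k : ZMod 5)) • S.R k).sum := by
    intro k hk
    have h1 : (T.convAt u v k : ZMod 5) = ((w.map fun p => p.1 * vget p.2 k).sum : ℕ) :=
      (ZMod.natCast_eq_natCast_iff' _ _ 5).2 (Nat.eq_of_beq_eq_true (h k (Finset.mem_range.1 hk)))
    rw [h1]
    clear h h1
    induction w with
    | nil => simp
    | cons p w ih =>
      simp only [List.map_cons, List.sum_cons, Nat.cast_add, Nat.cast_mul, add_smul]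
      rw [ih]
  rw [Finset.sum_congr rfl e]
  clear h e
  induction w with
  | nil => simp
  | cons p w ih =>
    rw [List.map_cons, List.sum_cons, ← ih, TableRep.act, Finset.smul_sum, ← Finset.sum_add_distrib]
    exact Finset.sum_congr rfl fun k _ => by rw [List.map_cons, List.sum_cons, smul_smul]

lemma TableRep.act_sum_eq (S : TableRep T n) (hT : T.check = true) {ps : List (ℕ × ℕ)} {w : ℕ}
    (h : T.convSumEq ps w = true) : (ps.map fun p => S.act p.1 * S.act p.2).sum = S.act w := by
  simp only [Tables.convSumEq, List.all_eq_true, List.mem_range, foldr_add_eq_sum] at h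
  have e : S.act w = ∑ k ∈ Finset.range 60,
      (((ps.map fun p => T.convAt p.1 p.2 k).sum : ℕ) : ZMod 5) • S.R k := by
    refine Finset.sum_congr rfl fun k hk => ?_
    rw [(ZMod.natCast_eq_natCast_iff' _ _ 5).2 (Nat.eq_of_beq_eq_true (h k (Finset.mem_range.1 hk))).symm]
  rw [e]
  clear h e
  induction ps with
  | nil => simp
  | cons p ps ih =>
    simp only [List.map_cons, List.sum_cons, Nat.cast_add, add_smul, Finset.sum_add_distrib]
    rw [ih, S.act_mul hT]

variable (S S' : TableRep T n)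

/-- The vector attached to a coded vector on pairs of cosets. -/
def cosVec (v : n → ZMod 5) (c : ℕ) : n → ZMod 5 :=
  ∑ x ∈ Finset.range 144,
    (vget c x : ZMod 5) • (S.R (T.rep (x / 12)) * S'.R (T.rep (x % 12))).mulVec v

lemma cosVec_translate (hT : T.check = true)
    (hc : ∀ i j, i < 60 → j < 60 → S.R i * S'.R j = S'.R j * S.R i)
    {v : n → ZMod 5} (hv : (S.R (T.pw 1)).mulVec v = v) (hv' : (S'.R (T.pw 1)).mulVec v = v)
    {a b : ℕ} (ha : a < 60) (hb : b < 60) (c : ℕ) :
    (S.R a * S'.R b).mulVec (cosVec S S' v c) =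
      ∑ x ∈ Finset.range 144,
        (T.transAt a b c x : ZMod 5) • (S.R (T.rep (x / 12)) * S'.R (T.rep (x % 12))).mulVec v := by
  obtain ⟨h1, h2, h3, h4, h5, h6, h7⟩ := Tables.spec hT
  have hfix : ∀ (U : TableRep T n), (U.R (T.pw 1)).mulVec v = v → ∀ k, k < 5 →
      (U.R (T.pw k)).mulVec v = v := by
    intro U hU k
    induction k with
    | zero => intro _; rw [h6, U.one, Matrix.one_mulVec]
    | succ k ih =>
      intro hk
      rw [h7 k (by omega), ← U.mul _ _ (h5 1 (by norm_num)) (h5 k (by omega)),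
        ← Matrix.mulVec_mulVec, ih (by omega), hU]
  have hmove : ∀ (U : TableRep T n), (U.R (T.pw 1)).mulVec v = v → ∀ g, g < 60 →
      (U.R g).mulVec v = (U.R (T.rep (T.cos g))).mulVec v := by
    intro U hU g hg
    obtain ⟨-, hcg, hpg, hd, -⟩ := h1 g hg
    conv_lhs => rw [← hd, ← U.mul _ _ (h3 _ hcg) (h5 _ hpg), ← Matrix.mulVec_mulVec,
      hfix U hU _ hpg]
  have hmv : ∀ x, x < 144 →
      (S.R a * S'.R b).mulVec ((S.R (T.rep (x / 12)) * S'.R (T.rep (x % 12))).mulVec v) =
      (S.R (T.rep (T.move a b x / 12)) * S'.R (T.rep (T.move a b x % 12))).mulVec v := by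
    intro x hx
    have hi : T.rep (x / 12) < 60 := h3 _ (by omega)
    have hj : T.rep (x % 12) < 60 := h3 _ (by omega)
    have hA := (h2 a _ ha hi).1
    have hB := (h2 b _ hb hj).1
    have hcA := (h1 _ hA).2.1
    have hcB := (h1 _ hB).2.1
    have e1 : T.move a b x / 12 = T.cos (T.mt a (T.rep (x / 12))) := by
      rw [Tables.move]; omega
    have e2 : T.move a b x % 12 = T.cos (T.mt b (T.rep (x % 12))) := by
      rw [Tables.move]; omega
    rw [e1, e2, Matrix.mulVec_mulVec]
    have e3 : S.R a * S'.R b * (S.R (T.rep (x / 12)) * S'.R (T.rep (x % 12))) =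
        S.R (T.mt a (T.rep (x / 12))) * S'.R (T.mt b (T.rep (x % 12))) := by
      rw [← S.mul _ _ ha hi, ← S'.mul _ _ hb hj, mul_assoc, ← mul_assoc (S'.R b), ← hc _ _ hi hb]
      simp only [mul_assoc]
    rw [e3, ← Matrix.mulVec_mulVec, hmove S' hv' _ hB, Matrix.mulVec_mulVec, hc _ _ hA (h3 _ hcB),
      ← Matrix.mulVec_mulVec, hmove S hv _ hA, Matrix.mulVec_mulVec, ← hc _ _ (h3 _ hcA) (h3 _ hcB)]
  have hinv : ∀ x, x < 144 → T.move a b x < 144 ∧ T.move (T.iv a) (T.iv b) x < 144 ∧
      T.move (T.iv a) (T.iv b) (T.move a b x) = x ∧ T.move a b (T.move (T.iv a) (T.iv b) x) = x := by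
    intro x hx
    have hi : x / 12 < 12 := by omega
    have hj : x % 12 < 12 := by omega
    have p1 := (h1 _ (h2 a _ ha (h3 _ hi)).1).2.1
    have p2 := (h1 _ (h2 b _ hb (h3 _ hj)).1).2.1
    have p3 := (h1 _ (h2 _ _ (h1 a ha).1 (h3 _ hi)).1).2.1
    have p4 := (h1 _ (h2 _ _ (h1 b hb).1 (h3 _ hj)).1).2.1
    have q1 := h4 a _ ha hi
    have q2 := h4 b _ hb hj
    have d1 : T.move a b x / 12 = T.cos (T.mt a (T.rep (x / 12))) := by rw [Tables.move]; omega
    have d2 : T.move a b x % 12 = T.cos (T.mt b (T.rep (x % 12))) := by rw [Tables.move]; omega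
    have d3 : T.move (T.iv a) (T.iv b) x / 12 = T.cos (T.mt (T.iv a) (T.rep (x / 12))) := by
      rw [Tables.move]; omega
    have d4 : T.move (T.iv a) (T.iv b) x % 12 = T.cos (T.mt (T.iv b) (T.rep (x % 12))) := by
      rw [Tables.move]; omega
    refine ⟨by rw [Tables.move]; omega, by rw [Tables.move]; omega, ?_, ?_⟩
    · rw [Tables.move, d1, d2, q1.1, q2.1]; omega
    · rw [Tables.move, d3, d4, q1.2, q2.2]; omega
  rw [cosVec, Matrix.mulVec_sum]
  refine Finset.sum_nbij' (T.move a b) (T.move (T.iv a) (T.iv b)) ?_ ?_ ?_ ?_ ?_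
  · intro x hx; exact Finset.mem_coe.2 (Finset.mem_range.2 (hinv x (Finset.mem_range.1 hx)).1)
  · intro x hx; exact Finset.mem_coe.2 (Finset.mem_range.2 (hinv x (Finset.mem_range.1 hx)).2.1)
  · intro x hx; exact (hinv x (Finset.mem_range.1 hx)).2.2.1
  · intro x hx; exact (hinv x (Finset.mem_range.1 hx)).2.2.2
  · intro x hx
    rw [Matrix.mulVec_smul, hmv x (Finset.mem_range.1 hx), Tables.transAt,
      (hinv x (Finset.mem_range.1 hx)).2.2.1]

lemma sum_combo_eq_zero (hT : T.check = true)
    (hc : ∀ i j, i < 60 → j < 60 → S.R i * S'.R j = S'.R j * S.R i)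
    {v : n → ZMod 5} (hv : (S.R (T.pw 1)).mulVec v = v) (hv' : (S'.R (T.pw 1)).mulVec v = v)
    {ws : List ℕ} (hws : ∀ w ∈ ws, cosVec S S' v w = 0) :
    ∀ c : Combo, Tables.comboOk ws.length c = true →
      ∑ x ∈ Finset.range 144, (T.comboAt ws c x : ZMod 5) •
        (S.R (T.rep (x / 12)) * S'.R (T.rep (x % 12))).mulVec v = 0
  | [], _ => by simp [Tables.comboAt]
  | (k, a, b, m) :: c, h => by
    simp only [Tables.comboOk, List.all_cons, Bool.and_eq_true, decide_eq_true_eq] at h
    obtain ⟨⟨⟨hk, ha⟩, hb⟩, hrest⟩ := h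
    have ih := sum_combo_eq_zero hT hc hv hv' hws c hrest
    have hz : ∑ x ∈ Finset.range 144, (T.transAt a b (ws.getD k 0) x : ZMod 5) •
        (S.R (T.rep (x / 12)) * S'.R (T.rep (x % 12))).mulVec v = 0 := by
      rw [← cosVec_translate S S' hT hc hv hv' ha hb, hws _ (by
        rw [List.getD_eq_getElem _ _ hk]; exact List.getElem_mem hk), Matrix.mulVec_zero]
    have e : ∀ x, (T.comboAt ws ((k, a, b, m) :: c) x : ZMod 5) =
        (m : ZMod 5) * (T.transAt a b (ws.getD k 0) x : ZMod 5) + (T.comboAt ws c x : ZMod 5) := by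
      intro x
      simp [Tables.comboAt]
    simp only [e, add_smul, Finset.sum_add_distrib, ih, add_zero, mul_smul, ← Finset.smul_sum, hz,
      smul_zero]

/-- A checked certificate: the vector is zero. -/
theorem eq_zero_of_cert (hT : T.check = true)
    (hc : ∀ i j, i < 60 → j < 60 → S.R i * S'.R j = S'.R j * S.R i)
    {v : n → ZMod 5} (hv : (S.R (T.pw 1)).mulVec v = v) (hv' : (S'.R (T.pw 1)).mulVec v = v)
    (kinds : List (List (ℕ × ℕ)))
    (hk : ∀ k ∈ kinds, ∀ y : n → ZMod 5, (∀ p ∈ k, (S.R p.1 * S'.R p.2).mulVec y = y) → y = 0) :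
    ∀ (steps : List CosStep) (ws : List ℕ) (fin : Combo),
      (∀ w ∈ ws, cosVec S S' v w = 0) → T.stepsOk kinds ws steps = true →
      T.finalOk (ws ++ steps.map CosStep.vec) fin = true → v = 0
  | [], ws, fin, hws, _, hfin => by
    simp only [List.map_nil, List.append_nil, Tables.finalOk, Bool.and_eq_true,
      List.all_eq_true, List.mem_range] at hfin
    obtain ⟨hok, hat⟩ := hfin
    have h0 := sum_combo_eq_zero S S' hT hc hv hv' hws fin hok
    rw [Finset.sum_eq_single 0] at h0
    · have e : (T.comboAt ws fin 0 : ZMod 5) = ((1 : ℕ) : ZMod 5) :=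
        (ZMod.natCast_eq_natCast_iff' _ _ 5).2 (by simpa using Nat.eq_of_beq_eq_true (hat 0 (by norm_num)))
      rw [e, Nat.cast_one, one_smul] at h0
      simpa [Tables.rep_zero hT, S.one, S'.one] using h0
    · intro x hx hx0
      have e : (T.comboAt ws fin x : ZMod 5) = ((0 : ℕ) : ZMod 5) :=
        (ZMod.natCast_eq_natCast_iff' _ _ 5).2 (by
          have := Nat.eq_of_beq_eq_true (hat x (Finset.mem_range.1 hx))
          simpa [hx0] using this)
      rw [e, Nat.cast_zero, zero_smul]
    · intro h; simp at h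
  | s :: ss, ws, fin, hws, hst, hfin => by
    simp only [Tables.stepsOk, Bool.and_eq_true, decide_eq_true_eq] at hst
    obtain ⟨⟨hkind, hjust⟩, hrest⟩ := hst
    refine eq_zero_of_cert hT hc hv hv' kinds hk ss (ws ++ [s.vec]) fin ?_ hrest (by
      simpa [List.append_assoc] using hfin)
    intro w hw
    rcases List.mem_append.1 hw with hw | hw
    · exact hws w hw
    rw [List.mem_singleton.1 hw]
    rw [List.getD_eq_getElem _ _ hkind] at hjust
    refine hk _ (List.getElem_mem hkind) _ ?_
    revert hjust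
    generalize kinds[s.kind] = gs
    generalize s.just = cs
    intro hjust
    induction gs generalizing cs with
    | nil => simp
    | cons g gs ih =>
      cases cs with
      | nil => simp [Tables.justOk] at hjust
      | cons c cs =>
        obtain ⟨a, b⟩ := g
        simp only [Tables.justOk, Bool.and_eq_true, decide_eq_true_eq, List.all_eq_true,
          List.mem_range] at hjust
        obtain ⟨⟨⟨⟨ha, hb⟩, hok⟩, hat⟩, hjust⟩ := hjust
        intro p hp
        rcases List.mem_cons.1 hp with rfl | hp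
        · rw [cosVec_translate S S' hT hc hv hv' ha hb]
          have e : ∀ x ∈ Finset.range 144, (T.transAt a b s.vec x : ZMod 5) •
              (S.R (T.rep (x / 12)) * S'.R (T.rep (x % 12))).mulVec v =
              (vget s.vec x : ZMod 5) • (S.R (T.rep (x / 12)) * S'.R (T.rep (x % 12))).mulVec v +
              (T.comboAt ws c x : ZMod 5) • (S.R (T.rep (x / 12)) * S'.R (T.rep (x % 12))).mulVec v := by
            intro x hx
            rw [← add_smul, ← Nat.cast_add, cast_eq_of_beq (b := vget s.vec x + T.comboAt ws c x)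
              (hat x (Finset.mem_range.1 hx))]
          rw [Finset.sum_congr rfl e, Finset.sum_add_distrib,
            sum_combo_eq_zero S S' hT hc hv hv' hws c hok, add_zero]
          rfl
        · exact ih cs hjust p hp

end CfsgLib.AltSolvCent.Five
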