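import Mathlib.GroupTheory.SpecificGroups.Alternating
import Mathlib.GroupTheory.Solvable
import Mathlib.GroupTheory.Abelianization.Defs
import Mathlib.Data.List.GetD
import Mathlib.Algebra.BigOperators.Group.Finset.Basic

/-!
Coded permutations of `Fin 10`, words in two elements of `A_10`, and tables of subgroups.
-/

set_option autoImplicit false

namespace CfsgLib.AltSolvCent.Five

open scoped commutatorElement

/-- The alternating group of degree ten. -/
abbrev A10 : Type := alternatingGroup (Fin 10)

/-- The image of `i` under the coded permutation. -/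
def imgD (a i : ℕ) : ℕ := (a >>> (4 * i)) % 16

/-- The code of a sequence of ten values. -/
def packD (a₀ a₁ a₂ a₃ a₄ a₅ a₆ a₇ a₈ a₉ : ℕ) : ℕ :=
  a₀ + 16 * (a₁ + 16 * (a₂ + 16 * (a₃ + 16 * (a₄ + 16 * (a₅ + 16 * (a₆ + 16 * (a₇ +
    16 * (a₈ + 16 * a₉))))))))

/-- Composition of coded permutations. -/
def mulD (a b : ℕ) : ℕ :=
  packD (imgD a (imgD b 0)) (imgD a (imgD b 1)) (imgD a (imgD b 2)) (imgD a (imgD b 3))
    (imgD a (imgD b 4)) (imgD a (imgD b 5)) (imgD a (imgD b 6)) (imgD a (imgD b 7))
    (imgD a (imgD b 8)) (imgD a (imgD b 9))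

/-- The code of an element of `A_10`. -/
def encD (g : A10) : ℕ :=
  packD (g.1 0).val (g.1 1).val (g.1 2).val (g.1 3).val (g.1 4).val (g.1 5).val (g.1 6).val
    (g.1 7).val (g.1 8).val (g.1 9).val

lemma imgD_zero {a y : ℕ} (h : a < 16) : imgD (a + 16 * y) 0 = a := by
  simp only [imgD, Nat.mul_zero, Nat.shiftRight_zero]; omega

lemma imgD_succ {a y i : ℕ} (h : a < 16) : imgD (a + 16 * y) (i + 1) = imgD y i := by
  simp only [imgD, Nat.shiftRight_eq_div_pow]
  rw [show 4 * (i + 1) = 4 + 4 * i by ring, pow_add, ← Nat.div_div_eq_div_mul]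
  congr 2
  norm_num
  omega

lemma imgD_last {a : ℕ} (h : a < 16) : imgD a 0 = a := by
  simp only [imgD, Nat.mul_zero, Nat.shiftRight_zero]; omega

lemma imgD_encD (g : A10) (j : Fin 10) : imgD (encD g) j.val = (g.1 j).val := by
  have h : ∀ k : Fin 10, (g.1 k).val < 16 := fun k => by have := (g.1 k).isLt; omega
  fin_cases j <;>
    (simp only [encD, packD, imgD_zero (h _), imgD_succ (h _), imgD_last (h _)]; rfl)

lemma encD_mul (g h : A10) : mulD (encD g) (encD h) = encD (g * h) := by
  have key : ∀ j : Fin 10, imgD (encD g) (imgD (encD h) j.val) = ((g * h : A10).1 j).val :=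
    fun j => by rw [imgD_encD h j, imgD_encD g (h.1 j)]; rfl
  have k0 := key 0; have k1 := key 1; have k2 := key 2; have k3 := key 3; have k4 := key 4
  have k5 := key 5; have k6 := key 6; have k7 := key 7; have k8 := key 8; have k9 := key 9
  simp only [mulD, encD]
  exact congr (congr (congr (congr (congr (congr (congr (congr (congr (congrArg packD k0) k1) k2)
    k3) k4) k5) k6) k7) k8) k9

lemma encD_injective : Function.Injective encD := fun g h e => by
  refine Subtype.ext (Equiv.ext fun j => Fin.ext ?_)
  rw [← imgD_encD g j, ← imgD_encD h j, e]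

/-- The code of the identity. -/
def idD : ℕ := packD 0 1 2 3 4 5 6 7 8 9

lemma encD_one : encD 1 = idD := rfl

/-- Two generators, with their codes. -/
structure Pair where
  x : A10
  y : A10
  cx : ℕ
  cy : ℕ
  hx : encD x = cx
  hy : encD y = cy

/-- A word in a pair of generators. -/
def Pair.eval (P : Pair) : List Bool → A10
  | [] => 1
  | b :: l => (if b then P.y else P.x) * P.eval l

/-- The code of a word. -/
def Pair.code (P : Pair) : List Bool → ℕ
  | [] => idD
  | b :: l => mulD (if b then P.cy else P.cx) (P.code l)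

lemma Pair.code_eq (P : Pair) : ∀ l, P.code l = encD (P.eval l)
  | [] => encD_one.symm
  | b :: l => by
    rw [Pair.code, Pair.eval, ← encD_mul, P.code_eq l]
    cases b <;> simp [P.hx, P.hy]

lemma Pair.eval_append (P : Pair) : ∀ l l' : List Bool, P.eval (l ++ l') = P.eval l * P.eval l'
  | [], l' => by simp [Pair.eval]
  | b :: l, l' => by simp [Pair.eval, P.eval_append l l', mul_assoc]

lemma Pair.eval_commute (P Q : Pair) (h : ∀ b c : Bool,
    Commute (if b then P.y else P.x) (if c then Q.y else Q.x)) :
    ∀ l m : List Bool, Commute (P.eval l) (Q.eval m)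
  | [], _ => Commute.one_left _
  | b :: l, m => by
    refine Commute.mul_left ?_ (P.eval_commute Q h l m)
    induction m with
    | nil => exact Commute.one_right _
    | cons c m ih => exact Commute.mul_right (h b c) ih

/-- Decoding of a word from a number. -/
def decodeWordAux : ℕ → ℕ → List Bool
  | 0, _ => []
  | k + 1, n => if Nat.ble n 1 then [] else Nat.beq (n % 2) 1 :: decodeWordAux k (n / 2)

/-- The word coded by a number. -/
def dw (n : ℕ) : List Bool := decodeWordAux 64 n

/-- The three-cycle `(0 1 2)`. -/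
def bigA : A10 := ⟨Equiv.swap 0 1 * Equiv.swap 1 2, by rw [Equiv.Perm.mem_alternatingGroup]; decide⟩

/-- The nine-cycle fixing `0`. -/
def bigB : A10 :=
  ⟨Equiv.swap 1 2 * Equiv.swap 2 3 * Equiv.swap 3 4 * Equiv.swap 4 5 * Equiv.swap 5 6 *
    Equiv.swap 6 7 * Equiv.swap 7 8 * Equiv.swap 8 9, by
    rw [Equiv.Perm.mem_alternatingGroup]; simp⟩

/-- The standard generators of `A_10`. -/
def bigPair : Pair where
  x := bigA
  y := bigB
  cx := packD 1 2 0 3 4 5 6 7 8 9
  cy := packD 0 2 3 4 5 6 7 8 9 1
  hx := by decide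
  hy := by decide

/-- Each word is a commutator of two words in the list. -/
def chkCommWit (P : Pair) (k : List (List Bool)) (wit : List (List ℕ × List ℕ)) : Bool :=
  let ev : List ℕ → List Bool := fun l => (l.map fun i => k.getD i []).flatten
  decide (k.length = wit.length) &&
    (k.zip wit).all (fun q => Nat.beq (mulD (P.code q.1) (mulD (P.code (ev q.2.2)) (P.code (ev q.2.1))))
      (mulD (P.code (ev q.2.1)) (P.code (ev q.2.2)))) &&
    !(Nat.beq (P.code (k.getD 0 [])) idD)

/-- Generators that are commutators generate a non-solvable group. -/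
theorem not_isSolvable_of_chkCommWit {P : Pair} {k : List (List Bool)}
    {wit : List (List ℕ × List ℕ)} (h : chkCommWit P k wit = true) :
    ¬ Group.IsSolvable (Subgroup.closure {g : A10 | ∃ w ∈ k, P.eval w = g}) := by
  set E : Subgroup A10 := Subgroup.closure {g : A10 | ∃ w ∈ k, P.eval w = g}
  simp only [chkCommWit, Bool.and_eq_true, decide_eq_true_eq, List.all_eq_true] at h
  obtain ⟨⟨hlen, hall⟩, hne⟩ := h
  have hev : ∀ l : List ℕ, P.eval ((l.map fun i => k.getD i []).flatten) ∈ E := by
    intro l
    induction l with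
    | nil => exact one_mem E
    | cons i l ih =>
      rw [List.map_cons, List.flatten_cons, P.eval_append]
      refine mul_mem ?_ ih
      by_cases hi : i < k.length
      · exact Subgroup.subset_closure ⟨_, by
          rw [List.getD_eq_getElem _ _ hi]; exact List.getElem_mem hi, rfl⟩
      · rw [List.getD_eq_default _ _ (by omega)]; exact one_mem E
  have hgen : ∀ w ∈ k, P.eval w ∈ ⁅E, E⁆ := by
    intro w hw
    obtain ⟨i, hi, rfl⟩ := List.getElem_of_mem hw
    have hp := hall (k[i], wit[i]'(hlen ▸ hi)) (by
      rw [← List.getElem_zip (h := by simp [← hlen, hi])]; exact List.getElem_mem _)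
    have he := Nat.eq_of_beq_eq_true hp
    simp only [P.code_eq, encD_mul] at he
    have e := encD_injective he
    generalize P.eval ((((wit[i]'(hlen ▸ hi)).1).map fun i => k.getD i []).flatten) = x,
      hev (wit[i]'(hlen ▸ hi)).1 = hx at e
    generalize P.eval ((((wit[i]'(hlen ▸ hi)).2).map fun i => k.getD i []).flatten) = y,
      hev (wit[i]'(hlen ▸ hi)).2 = hy at e
    have : P.eval k[i] = x * y * x⁻¹ * y⁻¹ := by
      rw [← e]
      group
    rw [this, ← commutatorElement_def]
    exact Subgroup.commutator_mem_commutator hx hy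
  have heq : ⁅E, E⁆ = E := by
    refine le_antisymm ((Subgroup.commutator_le).2 fun a ha b hb => ?_) ?_
    · rw [commutatorElement_def]
      exact mul_mem (mul_mem (mul_mem ha hb) (inv_mem ha)) (inv_mem hb)
    · rw [Subgroup.closure_le]; rintro _ ⟨w, hw, rfl⟩; exact hgen w hw
  intro hs
  have hmem : P.eval (k.getD 0 []) ∈ E := by
    by_cases hk : 0 < k.length
    · exact Subgroup.subset_closure ⟨_, by
        rw [List.getD_eq_getElem _ _ hk]; exact List.getElem_mem hk, rfl⟩
    · rw [List.getD_eq_default _ _ (by omega)]; exact one_mem E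
  have hE : E ≠ ⊥ := fun hE => by
    rw [hE, Subgroup.mem_bot] at hmem
    simp only [P.code_eq, hmem, encD_one] at hne
    simp at hne
  have := hs
  have : Nontrivial E := (Subgroup.nontrivial_iff_ne_bot E).2 hE
  refine (Group.IsSolvable.commutator_lt_of_ne_bot (G := E) (H := ⊤) top_ne_bot).ne ?_
  refine Subgroup.map_injective E.subtype_injective ?_
  rw [Subgroup.map_commutator, ← MonoidHom.range_eq_map, Subgroup.range_subtype, heq]

/-- An entry of a table of codes. -/
def tgetD (T i : ℕ) : ℕ := (T >>> (40 * i)) % 1099511627776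

end CfsgLib.AltSolvCent.Five
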