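import Cfsg.Agent.Lib.AltSolvCent.FivePairs
import Mathlib.Algebra.CharP.Lemmas
import Mathlib.Algebra.CharP.Two
import Mathlib.Algebra.Field.ZMod
import Mathlib.LinearAlgebra.Matrix.CharP
import Mathlib.Tactic.NormNum.Prime

/-!
A matrix representation of `A_10` over `ZMod 5` in which no non-solvable subgroup fixes a non-zero
vector: the block idempotents of the two commuting copies of `A_5` are orthogonal and add up to
one.
-/

set_option autoImplicit false

namespace CfsgLib.AltSolvCent.Five

open Matrix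

variable {n : ℕ} (ρ : A10 →* Matrix (Fin n) (Fin n) (ZMod 5))

/-- No non-solvable subgroup fixes a non-zero vector. -/
def NoFixedVector : Prop :=
  ∀ E : Subgroup A10, ¬ Group.IsSolvable E → ∀ x : Fin n → ZMod 5,
    (∀ g ∈ E, ρ g *ᵥ x = x) → x = 0

lemma elem_spec {P : Pair} {T : ℕ} (h : pairOk P T = true) :
    (∀ i, i < 60 → encD (elemAt P i) = tgetD T i) ∧
      (∀ i j, i < 60 → j < 60 → elemAt P i * elemAt P j = elemAt P (tablesA5.mt i j)) ∧
      elemAt P 0 = 1 := by
  simp only [pairOk, Bool.and_eq_true, List.all_eq_true, List.mem_range] at h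
  obtain ⟨h1, h0⟩ := h
  have he : ∀ i, i < 60 → encD (elemAt P i) = tgetD T i := fun i hi => by
    rw [elemAt, ← P.code_eq]; exact Nat.eq_of_beq_eq_true (h1 i hi).1
  refine ⟨he, fun i j hi hj => encD_injective ?_, encD_injective ?_⟩
  · rw [← encD_mul, he i hi, he j hj, he _ ((Tables.spec tablesA5_check).2.1 i j hi hj).1]
    exact Nat.eq_of_beq_eq_true ((h1 i hi).2 j hj)
  · rw [he 0 (by norm_num), encD_one]; exact Nat.eq_of_beq_eq_true h0

/-- A representation of the table group from a pair. -/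
def pairRep (P : Pair) {T : ℕ} (h : pairOk P T = true) : TableRep tablesA5 (Fin n) where
  R i := ρ (elemAt P i)
  mul i j hi hj := by rw [← map_mul, (elem_spec h).2.1 i j hi hj]
  one := by rw [(elem_spec h).2.2, map_one]

/-- The representation on the first five points. -/
def loRep : TableRep tablesA5 (Fin n) := pairRep ρ loPair pairOk_lo

/-- The representation on the last five points. -/
def hiRep : TableRep tablesA5 (Fin n) := pairRep ρ hiPair pairOk_hi

lemma commute_lo_hi (l m : List Bool) : Commute (loPair.eval l) (hiPair.eval m) := by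
  refine Pair.eval_commute _ _ (fun b c => ?_) l m
  refine encD_injective ?_
  rw [← encD_mul, ← encD_mul]
  cases b <;> cases c <;> simp only [Bool.false_eq_true, if_false, if_true, loPair.hx, loPair.hy,
    hiPair.hx, hiPair.hy] <;> rfl

lemma rep_commute (i j : ℕ) : loRep (n := n) ρ |>.R i |> fun a => a * (hiRep ρ).R j =
    (hiRep ρ).R j * a := by
  show ρ _ * ρ _ = ρ _ * ρ _
  rw [← map_mul, ← map_mul]
  exact congrArg ρ (commute_lo_hi _ _).eq

lemma rep_commute' (i j : ℕ) : (loRep ρ).R i * (hiRep ρ).R j = (hiRep ρ).R j * (loRep ρ).R i :=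
  rep_commute ρ i j

lemma act_commute (u v : ℕ) : (loRep ρ).act u * (hiRep ρ).act v = (hiRep ρ).act v * (loRep ρ).act u := by
  show Commute _ _
  refine Commute.sum_left _ _ _ fun i _ => Commute.smul_left ?_ _
  exact Commute.sum_right _ _ _ fun j _ => Commute.smul_right (rep_commute' ρ i j) _

lemma vget_one_shift (i j : ℕ) : vget (1 <<< (4 * i)) j = if i = j then 1 else 0 := by
  have h16 : ∀ k, (16 : ℕ) ^ k = 2 ^ (4 * k) := fun k => by rw [pow_mul]; norm_num
  rw [vget, Nat.shiftRight_eq_div_pow, Nat.one_shiftLeft, ← h16, ← h16]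
  rcases Nat.lt_trichotomy i j with h | rfl | h
  · rw [if_neg (by omega), Nat.div_eq_of_lt (Nat.pow_lt_pow_right (by norm_num) h)]
  · rw [if_pos rfl, Nat.div_self (by positivity)]
  · rw [if_neg (by omega), Nat.pow_div h.le (by norm_num)]
    obtain ⟨k, hk⟩ := Nat.exists_eq_add_of_lt h
    rw [show i - j = k + 1 by omega, pow_succ]
    simp

lemma act_single {S : TableRep tablesA5 (Fin n)} {i : ℕ} (hi : i < 60) :
    S.act (1 <<< (4 * i)) = S.R i := by
  rw [TableRep.act, Finset.sum_eq_single i]
  · rw [vget_one_shift, if_pos rfl, Nat.cast_one, one_smul]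
  · intro j _ hj; rw [vget_one_shift, if_neg (fun e => hj e.symm), Nat.cast_zero, zero_smul]
  · intro h; exact absurd (Finset.mem_range.2 hi) h

/-- The identities, as matrices. -/
structure BlockFacts (S : TableRep tablesA5 (Fin n)) : Prop where
  ee : S.act vE * S.act vE = S.act vE
  ef : S.act vE * S.act vF = S.act vF
  fe : S.act vF * S.act vE = S.act vF
  ff : S.act vF * S.act vF = S.act vF
  ez : S.act vE * S.act vZ = S.act vZ
  gn : S.R ixG * S.act vN = S.act vZ + S.act vN
  nsum : S.act vN = 1 + S.R ixS + S.R ixU + S.R (tablesA5.mt ixS ixU)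
  af : ∀ i : Fin 5, S.act (vA.getD i 0) * S.act vF = S.act (vA.getD i 0)
  fb : ∀ i : Fin 5, S.act vF * S.act (vB.getD i 0) = S.act (vB.getD i 0)
  ba : ∀ i j : Fin 5, S.act (vB.getD i 0) * S.act (vA.getD j 0) = if i = j then S.act vF else 0
  ab : ∑ i : Fin 5, S.act (vA.getD i 0) * S.act (vB.getD i 0) = S.act vE
  ga : ∀ g C, (g, C) ∈ [(1, cA), (2, cB), (ixS, cS), (ixG, cG)] → ∀ j : Fin 5,
    S.R g * S.act (vA.getD j 0) =
      ∑ i : Fin 5, ((C.getD i []).getD j 0 : ZMod 5) • S.act (vA.getD i 0)
  cen : ∀ g, g < 3 → S.act vE * S.R g = S.R g * S.act vE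

theorem blockFacts (S : TableRep tablesA5 (Fin n)) : BlockFacts S := by
  have hT := tablesA5_check
  have h := identitiesOk_eq
  simp only [identitiesOk, Bool.and_eq_true, List.all_eq_true, List.mem_range] at h
  obtain ⟨⟨⟨⟨⟨⟨⟨⟨⟨⟨he, hef⟩, hfe⟩, hff⟩, hez⟩, hgn⟩, hN⟩, hcen⟩, hab⟩, hsum⟩, hga⟩ := h
  have one : ∀ {u v w : ℕ}, tablesA5.convEq u v [(1, w)] = true →
      S.act u * S.act v = S.act w := fun h => by simpa using S.act_mul_eq hT h
  refine ⟨one he, one hef, one hfe, one hff, one hez, ?_, ?_, fun i => one (hab i i.isLt).1.1,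
    fun i => one (hab i i.isLt).1.2, ?_, ?_, ?_, ?_⟩
  · rw [← act_single (S := S) (by decide : ixG < 60)]
    simpa using S.act_mul_eq hT hgn
  · rw [Nat.eq_of_beq_eq_true hN, ← S.one, ← act_single (S := S) (by norm_num : (0 : ℕ) < 60),
      ← act_single (S := S) (by decide : ixS < 60), ← act_single (S := S) (by decide : ixU < 60),
      ← act_single (S := S) (by decide : tablesA5.mt ixS ixU < 60)]
    simp only [TableRep.act, ← Finset.sum_add_distrib, ← add_smul]
    refine Finset.sum_congr rfl fun k hk => congrArg (· • S.R k) ?_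
    have : ∀ k < 60, (vget (1 + (1 <<< (4 * ixS)) + (1 <<< (4 * ixU)) +
        (1 <<< (4 * tablesA5.mt ixS ixU))) k : ZMod 5) = (vget (1 <<< (4 * 0)) k : ZMod 5) +
        (vget (1 <<< (4 * ixS)) k : ZMod 5) + (vget (1 <<< (4 * ixU)) k : ZMod 5) +
        (vget (1 <<< (4 * tablesA5.mt ixS ixU)) k : ZMod 5) := by decide +kernel
    exact this k (Finset.mem_range.1 hk)
  · intro i j
    have := S.act_mul_eq hT ((hab i i.isLt).2 j j.isLt)
    by_cases hij : i = j
    · subst hij; simpa using this
    · have hb : Nat.beq (i : ℕ) (j : ℕ) = false := by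
        rw [← Bool.not_eq_true]; exact fun hb => hij (Fin.ext (Nat.eq_of_beq_eq_true hb))
      rw [if_neg hij]
      simpa [hb] using this
  · have := S.act_sum_eq hT hsum
    rw [List.map_map, sum_map_range, Finset.sum_range] at this
    exact this
  · intro g C hgC j
    have hg : g < 60 := by
      have : ∀ p ∈ [(1, cA), (2, cB), (ixS, cS), (ixG, cG)], p.1 < 60 := by decide
      exact this (g, C) hgC
    have h2 := S.act_mul_eq hT (hga (g, C) hgC j j.isLt)
    rw [act_single hg, List.map_map, sum_map_range, Finset.sum_range] at h2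
    exact h2
  · intro g hg
    rw [← act_single (S := S) (by omega : g < 60), S.act_mul hT, S.act_mul hT]
    refine Finset.sum_congr rfl fun k hk => congrArg (· • S.R k) ?_
    exact (ZMod.natCast_eq_natCast_iff' _ _ 5).2
      (Nat.eq_of_beq_eq_true (hcen g hg k (Finset.mem_range.1 hk)))

/-- The block idempotent commutes with the whole table group. -/
lemma vE_commute (P : Pair) {T : ℕ} (h : pairOk P T = true) (i : ℕ) :
    Commute ((pairRep ρ P h).act vE) ((pairRep ρ P h).R i) := by
  have hb := (blockFacts (pairRep ρ P h)).cen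
  have hx : elemAt P 1 = P.x := by
    rw [elemAt, show wordAt 1 = [false] by decide]; simp [Pair.eval]
  have hy : elemAt P 2 = P.y := by
    rw [elemAt, show wordAt 2 = [true] by decide]; simp [Pair.eval]
  show Commute _ (ρ (P.eval (wordAt i)))
  generalize wordAt i = w
  induction w with
  | nil => simp [Pair.eval]
  | cons b w ih =>
    rw [Pair.eval, map_mul]
    refine Commute.mul_right ?_ ih
    cases b
    · have := hb 1 (by norm_num)
      simp only [Bool.false_eq_true, if_false]
      rw [← hx]; exact this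
    · have := hb 2 (by norm_num)
      simp only [if_true]
      rw [← hy]; exact this

lemma kind_kills (hno : NoFixedVector ρ) : ∀ k ∈ cosKinds, ∀ y : Fin n → ZMod 5,
    (∀ p ∈ k, ((loRep ρ).R p.1 * (hiRep ρ).R p.2) *ᵥ y = y) → y = 0 := by
  intro k hk y hy
  obtain ⟨i, hi, rfl⟩ := List.getElem_of_mem hk
  have h := kindsOk_eq
  simp only [kindsOk, Bool.and_eq_true, decide_eq_true_eq, List.all_eq_true, List.mem_range] at h
  obtain ⟨-, h⟩ := h
  obtain ⟨⟨hwit, hlen⟩, hcode⟩ := h i hi
  rw [List.getD_eq_getElem _ _ hi] at hlen hcode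
  refine hno _ (not_isSolvable_of_chkCommWit hwit) y fun g hg => ?_
  refine Subgroup.closure_induction (p := fun g _ => ρ g *ᵥ y = y) ?_ ?_ ?_ ?_ hg
  · rintro g ⟨w, hw, rfl⟩
    obtain ⟨c, hc, rfl⟩ := List.mem_map.1 hw
    obtain ⟨j, hj, rfl⟩ := List.getElem_of_mem hc
    have hq := hcode ((kindWords.getD i [])[j], cosKinds[i][j]'(hlen ▸ hj)) (by
      rw [← List.getElem_zip (h := by rw [List.length_zip]; omega)]; exact List.getElem_mem _)
    obtain ⟨⟨hq, h1⟩, h2⟩ := hq
    have he := Nat.eq_of_beq_eq_true hq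
    rw [Pair.code_eq, ← (elem_spec pairOk_lo).1 _ h1, ← (elem_spec pairOk_hi).1 _ h2, encD_mul] at he
    rw [encD_injective he, map_mul]
    exact hy _ (List.getElem_mem _)
  · simp
  · intro a b _ _ ha hb; rw [map_mul, ← mulVec_mulVec, hb, ha]
  · intro a _ ha
    conv_lhs => rw [← ha]
    rw [mulVec_mulVec, ← map_mul, inv_mul_cancel, map_one, one_mulVec]

lemma mat_eq_zero_of_mulVec {A : Matrix (Fin n) (Fin n) (ZMod 5)}
    (h : ∀ x : Fin n → ZMod 5, A *ᵥ x = 0) : A = 0 := by
  refine Matrix.ext fun i j => ?_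
  simpa using congrFun (h (Pi.single j 1)) i

/-- The two block idempotents are orthogonal. -/
theorem vE_mul_vE (hno : NoFixedVector ρ) : (loRep ρ).act vE * (hiRep ρ).act vE = 0 := by
  set S := loRep ρ
  set S' := hiRep ρ
  have hS := blockFacts S
  have hS' := blockFacts S'
  let A : Fin 5 → Matrix (Fin n) (Fin n) (ZMod 5) := fun i => S.act (vA.getD i 0)
  let A' : Fin 5 → Matrix (Fin n) (Fin n) (ZMod 5) := fun i => S'.act (vA.getD i 0)
  let B : Fin 5 → Fin 5 → ZMod 5 := fun i j => ((formB.getD i []).getD j 0 : ℕ)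
  set W := ∑ i, ∑ j, B i j • (A i * A' j)
  have hW : W = 0 := by
    refine mat_eq_zero_of_mulVec fun x => ?_
    refine kind_kills ρ hno (cosKinds.getD 2 []) (by decide) _ ?_
    have hk : cosKinds.getD 2 [] = [(1, 1), (2, 2)] := by decide
    rw [hk]
    intro p hp
    obtain ⟨g, C, hgC, hinv, rfl⟩ : ∃ g C, (g, C) ∈ [(1, cA), (2, cB), (ixS, cS), (ixG, cG)] ∧
        C ∈ [cA, cB] ∧ p = (g, g) := by
      simp only [List.mem_cons, List.not_mem_nil, or_false] at hp
      rcases hp with rfl | rfl
      · exact ⟨1, cA, by simp, by simp, rfl⟩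
      · exact ⟨2, cB, by simp, by simp, rfl⟩
    rw [mulVec_mulVec]
    congr 1
    let c : Fin 5 → Fin 5 → ZMod 5 := fun i j => ((C.getD i []).getD j 0 : ℕ)
    have hterm : ∀ i j, (S.R g * S'.R g) * (A i * A' j) =
        ∑ a, ∑ b, (c a i * c b j) • (A a * A' b) := by
      intro i j
      have hcomm : S'.R g * A i = A i * S'.R g :=
        (Commute.sum_left _ _ _ fun k _ => Commute.smul_left (rep_commute' ρ k g) _).symm.eq
      rw [mul_assoc, ← mul_assoc (S'.R g), hcomm, mul_assoc (A i), ← mul_assoc, hS.ga g C hgC i,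
        hS'.ga g C hgC j, Finset.sum_mul]
      refine Finset.sum_congr rfl fun a _ => ?_
      rw [Finset.mul_sum]
      exact Finset.sum_congr rfl fun b _ => by rw [smul_mul_smul_comm]
    have hB : ∀ a b, ∑ i, ∑ j, c a i * B i j * c b j = B a b := by
      intro a b
      have h1 := formB_invariant.1 C hinv a a.isLt b b.isLt
      have h2 := (ZMod.natCast_eq_natCast_iff' _ _ 5).2 h1
      rw [sum_map_range, Nat.cast_sum, Finset.sum_range] at h2
      simp only [sum_map_range, Nat.cast_sum, Nat.cast_mul, Finset.sum_range] at h2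
      exact h2
    show (S.R g * S'.R g) * W = W
    have e1 : (S.R g * S'.R g) * W = ∑ i, ∑ j, ∑ a, ∑ b, (c a i * B i j * c b j) • (A a * A' b) := by
      simp only [W, Finset.mul_sum]
      refine Finset.sum_congr rfl fun i _ => Finset.sum_congr rfl fun j _ => ?_
      rw [mul_smul_comm, hterm i j, Finset.smul_sum]
      refine Finset.sum_congr rfl fun a _ => ?_
      rw [Finset.smul_sum]
      exact Finset.sum_congr rfl fun b _ => by rw [smul_smul]; congr 1; ring
    rw [e1]
    simp only [W]
    calc ∑ i, ∑ j, ∑ a, ∑ b, (c a i * B i j * c b j) • (A a * A' b)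
        = ∑ a, ∑ i, ∑ j, ∑ b, (c a i * B i j * c b j) • (A a * A' b) := by
          refine (Finset.sum_congr rfl fun i _ => Finset.sum_comm).trans ?_
          rw [Finset.sum_comm]
      _ = ∑ a, ∑ b, ∑ i, ∑ j, (c a i * B i j * c b j) • (A a * A' b) := by
          refine Finset.sum_congr rfl fun a _ => ?_
          refine (Finset.sum_congr rfl fun i _ => Finset.sum_comm).trans ?_
          rw [Finset.sum_comm]
      _ = _ := by
          refine Finset.sum_congr rfl fun a _ => Finset.sum_congr rfl fun b _ => ?_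
          rw [← hB a b, Finset.sum_smul]
          exact Finset.sum_congr rfl fun i _ => by rw [Finset.sum_smul]
  -- apply the dual coordinates
  have hff : S.act vF * S'.act vF = 0 := by
    have h1 : S.act (vB.getD 0 0) * S'.act (vB.getD 1 0) * W = 0 := by rw [hW, mul_zero]
    have hterm : ∀ i j, (S.act (vB.getD 0 0) * S'.act (vB.getD 1 0)) * (A i * A' j) =
        if 0 = i ∧ 1 = j then S.act vF * S'.act vF else 0 := by
      intro i j
      rw [mul_assoc, ← mul_assoc (S'.act (vB.getD 1 0)),
        show S'.act (vB.getD 1 0) * A i = A i * S'.act (vB.getD 1 0) from (act_commute ρ _ _).symm,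
        mul_assoc (A i), ← mul_assoc]
      have e1 := hS.ba 0 i
      have e2 := hS'.ba 1 j
      simp only [Fin.val_zero, Fin.val_one] at e1 e2
      rw [show S.act (vB.getD 0 0) * A i = _ from e1, show S'.act (vB.getD 1 0) * A' j = _ from e2]
      by_cases hi : 0 = i
      · by_cases hj : 1 = j <;> simp [hi, hj]
      · simp [hi]
    simp only [W, Finset.mul_sum, mul_smul_comm, hterm] at h1
    rw [Finset.sum_eq_single 0 (fun i _ hi => by simp [Ne.symm hi]) (by simp),
      Finset.sum_eq_single 1 (fun j _ hj => by simp [Ne.symm hj]) (by simp), if_pos ⟨rfl, rfl⟩] at h1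
    have hB01 : B 0 1 ≠ 0 := by
      simp only [B, Fin.val_zero, Fin.val_one]
      rw [ne_eq, ZMod.natCast_eq_zero_iff, Nat.dvd_iff_mod_eq_zero]
      exact formB_invariant.2
    haveI : Fact (Nat.Prime 5) := ⟨by norm_num⟩
    exact (smul_eq_zero_iff_right hB01).1 h1
  rw [← hS.ab, ← hS'.ab, Finset.sum_mul]
  refine Finset.sum_eq_zero fun i _ => ?_
  rw [Finset.mul_sum]
  refine Finset.sum_eq_zero fun j _ => ?_
  have : A i * S.act (vB.getD i 0) * (A' j * S'.act (vB.getD j 0)) =
      A i * A' j * (S.act vF * S'.act vF) * (S.act (vB.getD i 0) * S'.act (vB.getD j 0)) := by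
    calc A i * S.act (vB.getD i 0) * (A' j * S'.act (vB.getD j 0))
        = A i * (S.act (vB.getD i 0) * A' j) * S'.act (vB.getD j 0) := by simp only [mul_assoc]
      _ = A i * (A' j * S.act (vB.getD i 0)) * S'.act (vB.getD j 0) := by rw [act_commute]
      _ = (A i * S.act vF) * ((A' j * S'.act vF) * (S.act vF * S.act (vB.getD i 0))) *
            (S'.act vF * S'.act (vB.getD j 0)) := by rw [hS.af, hS'.af, hS.fb, hS'.fb]; try simp only [mul_assoc]
      _ = A i * (S.act vF * A' j) * (S'.act vF * S.act vF) * (S.act (vB.getD i 0) * S'.act vF) *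
            S'.act (vB.getD j 0) := by simp only [mul_assoc]
      _ = A i * (A' j * S.act vF) * (S.act vF * S'.act vF) * (S'.act vF * S.act (vB.getD i 0)) *
            S'.act (vB.getD j 0) := by
          rw [act_commute ρ vF (vA.getD j 0), ← act_commute ρ vF vF, act_commute ρ (vB.getD i 0) vF]
      _ = A i * A' j * (S.act vF * S.act vF) * (S'.act vF * S'.act vF) *
            (S.act (vB.getD i 0) * S'.act (vB.getD j 0)) := by simp only [mul_assoc]
      _ = _ := by rw [hS.ff, hS'.ff]; simp only [mul_assoc]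
  rw [this, hff]
  simp

lemma exists_fixed_of_pow_five {A : Matrix (Fin n) (Fin n) (ZMod 5)} (hA : A ^ 5 = 1)
    (Q : (Fin n → ZMod 5) → Prop) (hQ : ∀ x, Q x → Q (A *ᵥ x - x)) {x : Fin n → ZMod 5}
    (hx : Q x) (hx0 : x ≠ 0) : ∃ y, Q y ∧ y ≠ 0 ∧ A *ᵥ y = y := by
  haveI : Fact (Nat.Prime 5) := ⟨by norm_num⟩
  by_contra hcon
  push Not at hcon
  have key : ∀ k, Q ((A - 1) ^ k *ᵥ x) ∧ (A - 1) ^ k *ᵥ x ≠ 0 := by
    intro k
    induction k with
    | zero => simpa using ⟨hx, hx0⟩
    | succ k ih =>
      have e : (A - 1) ^ (k + 1) *ᵥ x = A *ᵥ ((A - 1) ^ k *ᵥ x) - (A - 1) ^ k *ᵥ x := by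
        rw [pow_succ', ← mulVec_mulVec, sub_mulVec, one_mulVec]
      rw [e]
      exact ⟨hQ _ ih.1, fun h0 => hcon _ ih.1 ih.2 (sub_eq_zero.1 h0)⟩
  refine (key 5).2 ?_
  rcases isEmpty_or_nonempty (Fin n) with h | h
  · exact Subsingleton.elim _ _
  rw [sub_pow_char_of_commute (p := 5) (Commute.one_right A), one_pow, hA, sub_self, zero_mulVec]

/-- The two block idempotents add up to one. -/
theorem vE_add_vE (hno : NoFixedVector ρ) : (loRep ρ).act vE + (hiRep ρ).act vE = 1 := by
  set S := loRep ρ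
  set S' := hiRep ρ
  set e := S.act vE
  set e' := S'.act vE
  have hS := blockFacts S
  have hS' := blockFacts S'
  have hT := tablesA5_check
  have hee' := vE_mul_vE ρ hno
  have he'e : e' * e = 0 := by rw [← act_commute]; exact hee'
  suffices h : (1 - e - e') = 0 by
    rw [sub_sub, sub_eq_zero] at h; exact h.symm
  refine mat_eq_zero_of_mulVec fun x₀ => ?_
  by_contra hx₀
  let Q : (Fin n → ZMod 5) → Prop := fun y => e *ᵥ y = 0 ∧ e' *ᵥ y = 0
  have hQ0 : Q ((1 - e - e') *ᵥ x₀) := by
    constructor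
    · rw [mulVec_mulVec, mul_sub, mul_sub, mul_one, hS.ee, hee', sub_self, sub_zero, zero_mulVec]
    · rw [mulVec_mulVec, mul_sub, mul_sub, mul_one, hS'.ee, he'e, sub_zero, sub_self, zero_mulVec]
  have hb : tablesA5.pw 1 < 60 := by decide
  set g := S.R (tablesA5.pw 1)
  set g' := S'.R (tablesA5.pw 1)
  have c1 : Commute e g := vE_commute ρ loPair pairOk_lo _
  have c2 : Commute e' g' := vE_commute ρ hiPair pairOk_hi _
  have c3 : Commute e g' :=
    Commute.sum_left _ _ _ fun i _ => Commute.smul_left (rep_commute' ρ i _) _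
  have c4 : Commute e' g :=
    Commute.sum_left _ _ _ fun i _ => Commute.smul_left (rep_commute' ρ _ i).symm _
  have hstep : ∀ {h : Matrix (Fin n) (Fin n) (ZMod 5)}, Commute e h → Commute e' h →
      ∀ y, Q y → Q (h *ᵥ y - y) := by
    intro h k1 k2 y ⟨y1, y2⟩
    constructor
    · rw [mulVec_sub, mulVec_mulVec, k1.eq, ← mulVec_mulVec, y1, mulVec_zero, sub_zero]
    · rw [mulVec_sub, mulVec_mulVec, k2.eq, ← mulVec_mulVec, y2, mulVec_zero, sub_zero]
  have hpow : ∀ P {T : ℕ} (h : pairOk P T = true), (pairRep ρ P h).R (tablesA5.pw 1) ^ 5 = 1 := by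
    intro P T h
    have hw : ∀ k, k < 4 → tablesA5.pw (k + 1) = tablesA5.mt (tablesA5.pw 1) (tablesA5.pw k) :=
      (Tables.spec hT).2.2.2.2.2.2
    have hlt := (Tables.spec hT).2.2.2.2.1
    set U := pairRep ρ P h
    have hk : ∀ k, k < 5 → U.R (tablesA5.pw 1) ^ k = U.R (tablesA5.pw k) := by
      intro k
      induction k with
      | zero => intro _; rw [pow_zero, (Tables.spec hT).2.2.2.2.2.1, U.one]
      | succ k ih =>
        intro hk
        rw [pow_succ', ih (by omega), hw k (by omega), U.mul _ _ (hlt 1 (by norm_num)) (hlt k (by omega))]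
    rw [pow_succ' _ 4, hk 4 (by norm_num),
      U.mul _ _ (hlt 1 (by norm_num)) (hlt 4 (by norm_num)),
      show tablesA5.mt (tablesA5.pw 1) (tablesA5.pw 4) = 0 by decide, U.one]
  obtain ⟨y, hy, hy0, hyg⟩ :=
    exists_fixed_of_pow_five (hpow loPair pairOk_lo) Q (hstep c1 c4) hQ0 hx₀
  obtain ⟨z, ⟨hz, hzg⟩, hz0, hzg'⟩ := exists_fixed_of_pow_five (hpow hiPair pairOk_hi)
    (fun z => Q z ∧ g *ᵥ z = z) (fun z ⟨h1, h2⟩ => ⟨hstep c3 c2 z h1, by
      rw [mulVec_sub, mulVec_mulVec]
      conv_lhs => arg 1; arg 1; change (loRep ρ).R (tablesA5.pw 1) * (hiRep ρ).R (tablesA5.pw 1); rw [rep_commute' ρ]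
      rw [← mulVec_mulVec]
      exact congrArg₂ (· - ·) (congrArg _ h2) h2⟩) ⟨hy, hyg⟩ hy0
  refine hz0 (eq_zero_of_cert S S' hT (fun i j _ _ => rep_commute' ρ i j) hzg hzg' cosKinds
    (kind_kills ρ hno) cosSteps cosBase cosFinal ?_ ?_ ?_)
  · intro w hw
    -- the first two vectors are the images of the two idempotents
    obtain ⟨h1, h2, h3, -, h5, h6, h7⟩ := Tables.spec hT
    have hfix : ∀ (U : TableRep tablesA5 (Fin n)), U.R (tablesA5.pw 1) *ᵥ z = z → ∀ k, k < 5 →
        U.R (tablesA5.pw k) *ᵥ z = z := by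
      intro U hU k
      induction k with
      | zero => intro _; rw [h6, U.one, one_mulVec]
      | succ k ih =>
        intro hk
        rw [h7 k (by omega), ← U.mul _ _ (h5 1 (by norm_num)) (h5 k (by omega)), ← mulVec_mulVec,
          ih (by omega), hU]
    have hproj : ∀ (U : TableRep tablesA5 (Fin n)), U.R (tablesA5.pw 1) *ᵥ z = z →
        ∀ u : ℕ, U.act u *ᵥ z = ∑ c ∈ Finset.range 12,
          ((∑ i ∈ Finset.range 60, if tablesA5.cos i = c then vget u i else 0 : ℕ) : ZMod 5) •
            (U.R (tablesA5.rep c) *ᵥ z) := by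
      intro U hU u
      simp only [Nat.cast_sum, Finset.sum_smul]
      rw [Finset.sum_comm, TableRep.act, sum_mulVec]
      refine Finset.sum_congr rfl fun i hi => ?_
      obtain ⟨-, hci, hpi, hd, -⟩ := h1 i (Finset.mem_range.1 hi)
      rw [Finset.sum_eq_single (tablesA5.cos i) (fun c _ hc => by simp [Ne.symm hc])
        (fun hne => absurd (Finset.mem_range.2 hci) hne), if_pos rfl, smul_mulVec]
      congr 1
      conv_lhs => rw [← hd, ← U.mul _ _ (h3 _ hci) (h5 _ hpi), ← mulVec_mulVec, hfix U hU _ hpi]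
    have hB : ∀ x < 144,
        vget (cosBase.getD 0 0) x % 5 = (if x % 12 = 0 then
          ∑ i ∈ Finset.range 60, if tablesA5.cos i = x / 12 then vget vE i else 0 else 0) % 5 ∧
        vget (cosBase.getD 1 0) x % 5 = (if x / 12 = 0 then
          ∑ i ∈ Finset.range 60, if tablesA5.cos i = x % 12 then vget vE i else 0 else 0) % 5 := by
      decide +kernel
    have hr0 : tablesA5.rep 0 = 0 := Tables.rep_zero hT
    simp only [cosBase, List.mem_cons, List.not_mem_nil, or_false] at hw
    have hsplit : ∀ (f : ℕ → Fin n → ZMod 5), ∑ x ∈ Finset.range 144, f x =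
        ∑ a ∈ Finset.range 12, ∑ b ∈ Finset.range 12, f (12 * a + b) := by
      intro f
      rw [← Finset.sum_product']
      refine Finset.sum_nbij' (fun x => (x / 12, x % 12)) (fun p => 12 * p.1 + p.2) ?_ ?_ ?_ ?_ ?_
      all_goals intro x hx
      all_goals simp at hx ⊢
      · omega
      · omega
      · omega
      · exact Prod.ext (by simp only; omega) (by simp only; omega)
      · congr 1; omega
    rcases hw with rfl | rfl
    · have e1 : cosVec S S' z (cosBase.getD 0 0) = e *ᵥ z := by
        rw [cosVec, hsplit, hproj S hzg]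
        refine Finset.sum_congr rfl fun a ha => ?_
        rw [Finset.mem_range] at ha
        rw [Finset.sum_eq_single 0]
        · rw [(ZMod.natCast_eq_natCast_iff' _ _ 5).2 (hB (12 * a + 0) (by omega)).1,
            if_pos (by omega), show (12 * a + 0) / 12 = a by omega,
            show (12 * a + 0) % 12 = 0 by omega, hr0, S'.one, mul_one]
        · intro b hb hb0
          rw [Finset.mem_range] at hb
          rw [(ZMod.natCast_eq_natCast_iff' _ _ 5).2 (hB (12 * a + b) (by omega)).1,
            if_neg (by omega), Nat.cast_zero, zero_smul]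
        · simp
      exact e1.trans hz.1
    · have e1 : cosVec S S' z (cosBase.getD 1 0) = e' *ᵥ z := by
        rw [cosVec, hsplit, hproj S' hzg', Finset.sum_eq_single 0]
        · refine Finset.sum_congr rfl fun b hb => ?_
          rw [Finset.mem_range] at hb
          rw [(ZMod.natCast_eq_natCast_iff' _ _ 5).2 (hB (12 * 0 + b) (by omega)).2,
            if_pos (by omega), show (12 * 0 + b) % 12 = b by omega,
            show (12 * 0 + b) / 12 = 0 by omega, hr0, S.one, one_mul]
        · intro a ha ha0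
          rw [Finset.mem_range] at ha
          refine Finset.sum_eq_zero fun b hb => ?_
          rw [Finset.mem_range] at hb
          rw [(ZMod.natCast_eq_natCast_iff' _ _ 5).2 (hB (12 * a + b) (by omega)).2,
            if_neg (by omega), Nat.cast_zero, zero_smul]
        · simp
      exact e1.trans hz.2
  · exact (Bool.and_eq_true _ _ ▸ cosCert_check).1
  · exact (Bool.and_eq_true _ _ ▸ cosCert_check).2

end CfsgLib.AltSolvCent.Five
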