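import Mathlib.GroupTheory.SchurZassenhaus
import Mathlib.LinearAlgebra.Matrix.NonsingularInverse
import Mathlib.LinearAlgebra.Matrix.Trace
import Mathlib.LinearAlgebra.Matrix.ToLin
import Mathlib.LinearAlgebra.FiniteDimensional.Basic
import Mathlib.GroupTheory.PGroup
import Mathlib.Algebra.Ring.GeomSum
import Mathlib.Algebra.Field.ZMod

/-!
Traces of lifts to `ZMod (p ^ (N + 1))` of matrices of order prime to `p` over `ZMod p`: an
elementary substitute for Brauer characters.

* `trace_eq_of_lift`: two such lifts have the same trace.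
* `exists_lift_hom`: a representation of a `p'`-group lifts.
* `exists_sum_eq_card_mul`: the inner product with a linear character is a multiplicity.
-/

set_option autoImplicit false

namespace CfsgLib.AltSolvCent.Lift

open Matrix

variable {p : ℕ} [hp : Fact p.Prime] {N : ℕ}

/-- Reduction modulo `p`. -/
def red (p N : ℕ) : ZMod (p ^ (N + 1)) →+* ZMod p :=
  ZMod.castHom (dvd_pow_self p (Nat.succ_ne_zero N)) (ZMod p)

lemma red_surjective : Function.Surjective (red p N) := ZMod.castHom_surjective _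

lemma exists_eq_mul_of_red {x : ZMod (p ^ (N + 1))} (h : red p N x = 0) : ∃ y, x = p * y := by
  haveI : NeZero (p ^ (N + 1)) := ⟨pow_ne_zero _ hp.out.ne_zero⟩
  have h1 : (x.val : ZMod p) = 0 := by
    rw [← map_natCast (red p N), ZMod.natCast_zmod_val, h]
  obtain ⟨c, hc⟩ := (ZMod.natCast_eq_zero_iff _ _).1 h1
  refine ⟨c, ?_⟩
  conv_lhs => rw [← ZMod.natCast_zmod_val x, hc]
  push_cast; rfl

lemma isUnit_of_red {x : ZMod (p ^ (N + 1))} (h : red p N x ≠ 0) : IsUnit x := by
  haveI : NeZero (p ^ (N + 1)) := ⟨pow_ne_zero _ hp.out.ne_zero⟩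
  rw [← ZMod.natCast_zmod_val x] at h ⊢
  rw [map_natCast, ne_eq, ZMod.natCast_eq_zero_iff] at h
  exact (ZMod.isUnit_iff_coprime _ _).2 (Nat.Coprime.pow_right _ (hp.out.coprime_iff_not_dvd.2 h).symm)

variable {ι κ μ : Type*}

/-- Entrywise reduction of a rectangular matrix. -/
def redM (A : Matrix ι κ (ZMod (p ^ (N + 1)))) : Matrix ι κ (ZMod p) := A.map (red p N)

lemma redM_mul [Fintype κ] (A : Matrix ι κ (ZMod (p ^ (N + 1)))) (B : Matrix κ μ (ZMod (p ^ (N + 1)))) :
    redM (A * B) = redM A * redM B := Matrix.map_mul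

lemma exists_redM_eq (A : Matrix ι κ (ZMod p)) :
    ∃ A' : Matrix ι κ (ZMod (p ^ (N + 1))), redM A' = A :=
  ⟨fun i j => (red_surjective (A i j)).choose,
    Matrix.ext fun i j => (red_surjective (A i j)).choose_spec⟩

variable [Fintype ι] [DecidableEq ι]

lemma redM_one : redM (1 : Matrix ι ι (ZMod (p ^ (N + 1)))) = 1 :=
  Matrix.map_one _ (map_zero _) (map_one _)

lemma redM_pow (A : Matrix ι ι (ZMod (p ^ (N + 1)))) (k : ℕ) : redM (A ^ k) = redM A ^ k :=
  map_pow (red p N).mapMatrix A k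

lemma isUnit_of_redM {A : Matrix ι ι (ZMod (p ^ (N + 1)))} (h : IsUnit (redM A)) : IsUnit A := by
  rw [Matrix.isUnit_iff_isUnit_det] at h ⊢
  refine isUnit_of_red fun h0 => h.ne_zero ?_
  rw [redM, ← RingHom.mapMatrix_apply, ← RingHom.map_det, h0]

lemma trace_eq_of_intertwine {R : Type*} [CommRing R] {X Y S : Matrix ι ι R} (hS : IsUnit S)
    (h : X * S = S * Y) : X.trace = Y.trace := by
  obtain ⟨u, rfl⟩ := hS
  have hX : X = (u : Matrix ι ι R) * Y * (↑u⁻¹ : Matrix ι ι R) := by
    rw [← h, mul_assoc, Units.mul_inv, mul_one]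
  rw [hX, trace_units_conj]

omit hp in
/-- The averaging matrix intertwining two matrices of exponent `m`. -/
lemma intertwine {R : Type*} [CommRing R] {X Y : Matrix ι ι R} {m : ℕ} (hX : X ^ m = 1)
    (hY : Y ^ m = 1) :
    X * (∑ i ∈ Finset.range m, X ^ i * Y ^ (m - i)) =
      (∑ i ∈ Finset.range m, X ^ i * Y ^ (m - i)) * Y := by
  have hg : ∀ i ∈ Finset.range m,
      X * (X ^ i * Y ^ (m - i)) - X ^ i * Y ^ (m - i) * Y =
        (fun j => X ^ j * Y ^ (m + 1 - j)) (i + 1) - (fun j => X ^ j * Y ^ (m + 1 - j)) i := by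
    intro i hi
    rw [Finset.mem_range] at hi
    simp only [← mul_assoc, ← pow_succ']
    rw [mul_assoc _ (Y ^ (m - i)) Y, ← pow_succ, show m + 1 - (i + 1) = m - i by omega,
      show m + 1 - i = m - i + 1 by omega]
  rw [← sub_eq_zero, Finset.mul_sum, Finset.sum_mul, ← Finset.sum_sub_distrib,
    Finset.sum_congr rfl hg, Finset.sum_range_sub (fun j => X ^ j * Y ^ (m + 1 - j))]
  simp [hX, hY, pow_succ]

/-- Two lifts of exponent prime to `p` of the same matrix have the same trace. -/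
theorem trace_eq_of_lift {X Y : Matrix ι ι (ZMod (p ^ (N + 1)))} {a b : ℕ} (ha : a.Coprime p)
    (hb : b.Coprime p) (hX : X ^ a = 1) (hY : Y ^ b = 1) (h : redM X = redM Y) :
    X.trace = Y.trace := by
  set m := a * b with hm
  have hX' : X ^ m = 1 := by rw [hm, pow_mul, hX, one_pow]
  have hY' : Y ^ m = 1 := by rw [hm, mul_comm, pow_mul, hY, one_pow]
  refine trace_eq_of_intertwine (isUnit_of_redM ?_) (intertwine hX' hY')
  have e : redM (∑ i ∈ Finset.range m, X ^ i * Y ^ (m - i)) = (m : Matrix ι ι (ZMod p)) := by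
    show (red p N).mapMatrix _ = _
    rw [map_sum]
    have : ∀ i ∈ Finset.range m, (red p N).mapMatrix (X ^ i * Y ^ (m - i)) = 1 := by
      intro i hi
      rw [Finset.mem_range] at hi
      show redM (X ^ i * Y ^ (m - i)) = 1
      rw [redM_mul, redM_pow, redM_pow, h, ← pow_add, Nat.add_sub_cancel' hi.le, ← redM_pow, hY',
        redM_one]
    rw [Finset.sum_congr rfl this, Finset.sum_const, Finset.card_range, nsmul_one]
  rw [e]
  have hm0 : (m : ZMod p) ≠ 0 := by
    rw [ne_eq, ZMod.natCast_eq_zero_iff]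
    exact hp.out.coprime_iff_not_dvd.1 (Nat.Coprime.mul_left ha hb).symm
  exact (IsUnit.mk0 (m : ZMod p) hm0).map (algebraMap (ZMod p) (Matrix ι ι (ZMod p))) |> fun h' => by
    rwa [map_natCast] at h'

/-- The kernel of reduction has `p`-power exponent. -/
lemma pow_p_pow_eq_one {X : Matrix ι ι (ZMod (p ^ (N + 1)))} (h : redM X = 1) :
    X ^ (p ^ N) = 1 := by
  have key : ∀ j : ℕ, ∃ B : Matrix ι ι (ZMod (p ^ (N + 1))),
      X ^ (p ^ j) - 1 = (p ^ (j + 1) : ℕ) • B := by
    have hdiv : ∀ A : Matrix ι ι (ZMod (p ^ (N + 1))), redM A = 0 → ∃ B, A = p • B := by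
      intro A hA
      refine ⟨Matrix.of fun i j => (exists_eq_mul_of_red (congrFun (congrFun hA i) j)).choose,
        Matrix.ext fun i j => ?_⟩
      rw [Matrix.smul_apply, nsmul_eq_mul, Matrix.of_apply]
      exact (exists_eq_mul_of_red (congrFun (congrFun hA i) j)).choose_spec
    intro j
    induction j with
    | zero =>
      obtain ⟨B, hB⟩ := hdiv (X - 1) (by
        show (red p N).mapMatrix (X - 1) = 0
        rw [map_sub, map_one, sub_eq_zero]; exact h)
      exact ⟨B, by simpa using hB⟩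
    | succ j ih =>
      obtain ⟨B, hB⟩ := ih
      set Z := X ^ p ^ j
      obtain ⟨C, hC⟩ := hdiv (∑ i ∈ Finset.range p, Z ^ i) (by
        show (red p N).mapMatrix _ = 0
        have h1 : ∀ i ∈ Finset.range p, (red p N).mapMatrix (Z ^ i) = 1 := fun i _ => by
          show redM (Z ^ i) = 1
          rw [redM_pow, redM_pow, h, one_pow, one_pow]
        rw [map_sum, Finset.sum_congr rfl h1, Finset.sum_const, Finset.card_range, nsmul_one]
        ext a b
        simp [Matrix.natCast_apply])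
      refine ⟨C * B, ?_⟩
      rw [pow_succ p j, pow_mul, ← geom_sum_mul, hC, hB, smul_mul_smul_comm, ← pow_succ']
  obtain ⟨B, hB⟩ := key N
  rw [← sub_eq_zero, hB]
  ext a b
  rw [Matrix.smul_apply, nsmul_eq_mul, ZMod.natCast_self, zero_mul, Matrix.zero_apply]

/-- A representation of a `p'`-group lifts. -/
theorem exists_lift_hom {K : Type*} [Group K] [Finite K] (hK : (Nat.card K).Coprime p)
    (ρ : K →* Matrix ι ι (ZMod p)) :
    ∃ σ : K →* Matrix ι ι (ZMod (p ^ (N + 1))), ∀ k, redM (σ k) = ρ k := by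
  haveI : NeZero (p ^ (N + 1)) := ⟨pow_ne_zero _ hp.out.ne_zero⟩
  haveI : NeZero p := ⟨hp.out.ne_zero⟩
  let φ : (Matrix ι ι (ZMod (p ^ (N + 1))))ˣ →* (Matrix ι ι (ZMod p))ˣ :=
    Units.map ((red p N).mapMatrix (m := ι)).toMonoidHom
  have hφ : Function.Surjective φ := by
    intro u
    obtain ⟨A, hA⟩ := exists_redM_eq (N := N) (u : Matrix ι ι (ZMod p))
    have hAu : IsUnit A := isUnit_of_redM (hA ▸ u.isUnit)
    exact ⟨hAu.unit, Units.ext hA⟩
  let ρu : K →* (Matrix ι ι (ZMod p))ˣ := ρ.toHomUnits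
  set H := ρu.range.comap φ with hH
  let ψ : H →* ρu.range := φ.subgroupComap ρu.range
  have hψ : Function.Surjective ψ := fun ⟨u, hu⟩ => by
    obtain ⟨A, rfl⟩ := hφ u
    exact ⟨⟨A, hu⟩, rfl⟩
  have hker : IsPGroup p ψ.ker := fun x => ⟨N, by
    refine Subtype.ext (Subtype.ext (Units.ext ?_))
    have hx : φ ((x : H) : (Matrix ι ι (ZMod (p ^ (N + 1))))ˣ) = 1 :=
      congrArg Subtype.val (MonoidHom.mem_ker.1 x.2)
    simpa using pow_p_pow_eq_one (congrArg Units.val hx)⟩
  have hidx : ψ.ker.index = Nat.card ρu.range := by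
    rw [Subgroup.index_ker, MonoidHom.range_eq_top.2 hψ, Subgroup.card_top]
  obtain ⟨C, hC⟩ := Subgroup.exists_right_complement'_of_coprime (N := ψ.ker) (by
    rw [hidx]
    obtain ⟨i, hi⟩ := IsPGroup.iff_card.1 hker
    rw [hi]
    exact (Nat.Coprime.coprime_dvd_left (Subgroup.card_range_dvd ρu) hK).symm.pow_left i)
  have hbij : Function.Bijective (ψ.comp C.subtype) := by
    constructor
    · rw [← MonoidHom.ker_eq_bot_iff]
      rw [eq_bot_iff]
      intro c hc
      have h1 : (c : H) ∈ ψ.ker ⊓ C := ⟨hc, c.2⟩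
      rw [hC.disjoint.eq_bot] at h1
      exact Subtype.ext h1
    · intro u
      obtain ⟨h, rfl⟩ := hψ u
      obtain ⟨⟨a, c⟩, hac⟩ := hC.2 h
      refine ⟨c, ?_⟩
      have := congrArg ψ hac
      simp only [map_mul, MonoidHom.mem_ker.1 a.2, one_mul] at this
      exact this
  let e := MulEquiv.ofBijective _ hbij
  refine ⟨(Units.coeHom _).comp (H.subtype.comp (C.subtype.comp
    (e.symm.toMonoidHom.comp ρu.rangeRestrict))), fun k => ?_⟩
  have h2 : ψ ((e.symm (ρu.rangeRestrict k) : C) : H) = ρu.rangeRestrict k := e.apply_symm_apply _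
  exact congrArg (fun u : ρu.range => ((u : (Matrix ι ι (ZMod p))ˣ) : Matrix ι ι (ZMod p))) h2

/-- An idempotent matrix over `ZMod p` is a product of a full column and a full row factor. -/
theorem exists_factor (P : Matrix ι ι (ZMod p)) (hP : P * P = P) :
    ∃ (r : ℕ) (A : Matrix ι (Fin r) (ZMod p)) (B : Matrix (Fin r) ι (ZMod p)),
      r ≤ Fintype.card ι ∧ A * B = P ∧ B * A = 1 := by
  set f := Matrix.toLin' P with hf
  set W := LinearMap.range f with hW
  let b := Module.finBasis (ZMod p) W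
  refine ⟨Module.finrank (ZMod p) W, LinearMap.toMatrix' (W.subtype ∘ₗ b.equivFun.symm.toLinearMap),
    LinearMap.toMatrix' (b.equivFun.toLinearMap ∘ₗ f.rangeRestrict), ?_, ?_, ?_⟩
  · exact (Submodule.finrank_le W).trans_eq (Module.finrank_pi _)
  · rw [← LinearMap.toMatrix'_comp]
    have e : (W.subtype ∘ₗ b.equivFun.symm.toLinearMap) ∘ₗ (b.equivFun.toLinearMap ∘ₗ f.rangeRestrict)
        = f := LinearMap.ext fun x => by simp [W]
    rw [e, hf, LinearMap.toMatrix'_toLin']
  · rw [← LinearMap.toMatrix'_comp]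
    have e : (b.equivFun.toLinearMap ∘ₗ f.rangeRestrict) ∘ₗ (W.subtype ∘ₗ b.equivFun.symm.toLinearMap)
        = LinearMap.id := by
      refine LinearMap.ext fun x => ?_
      have hfix : f.rangeRestrict ((b.equivFun.symm x : W) : ι → ZMod p) = b.equivFun.symm x := by
        obtain ⟨y, hy⟩ := (b.equivFun.symm x).2
        refine Subtype.ext ?_
        show f ((b.equivFun.symm x : W) : ι → ZMod p) = _
        rw [← hy, hf, ← LinearMap.comp_apply, ← Matrix.toLin'_mul, hP]
      show b.equivFun (f.rangeRestrict ((b.equivFun.symm x : W) : ι → ZMod p)) = x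
      rw [hfix, LinearEquiv.apply_symm_apply]
    rw [e, LinearMap.toMatrix'_id]

/-- A lift of an idempotent has as trace the rank of its reduction. -/
theorem exists_trace_idem (P : Matrix ι ι (ZMod (p ^ (N + 1)))) (hP : P * P = P) :
    ∃ r : ℕ, r ≤ Fintype.card ι ∧ P.trace = (r : ZMod (p ^ (N + 1))) := by
  obtain ⟨r, A, B, hr, hAB, hBA⟩ := exists_factor (redM P) (by rw [← redM_mul, hP])
  obtain ⟨A', hA'⟩ := exists_redM_eq (N := N) A
  obtain ⟨B', hB'⟩ := exists_redM_eq (N := N) B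
  have hM : IsUnit (B' * A') := isUnit_of_redM (by rw [redM_mul, hA', hB', hBA]; exact isUnit_one)
  obtain ⟨u, hu⟩ := hM
  set B'' := (↑u⁻¹ : Matrix (Fin r) (Fin r) (ZMod (p ^ (N + 1)))) * B'
  have hB'' : B'' * A' = 1 := by rw [Matrix.mul_assoc, ← hu, Units.inv_mul]
  have hredB : redM B'' = B := by
    have h1 : redM (↑u⁻¹ : Matrix (Fin r) (Fin r) (ZMod (p ^ (N + 1)))) = 1 := by
      have h2 := congrArg redM u.inv_mul
      rw [redM_mul, redM_one, hu, redM_mul, hA', hB', hBA, Matrix.mul_one] at h2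
      exact h2
    rw [redM_mul, h1, Matrix.one_mul, hB']
  set Q := A' * B''
  have hQ : Q * Q = Q := by
    rw [Matrix.mul_assoc A', ← Matrix.mul_assoc B'', hB'', Matrix.one_mul]
  refine ⟨r, hr, ?_⟩
  have hS : IsUnit (P * Q + (1 - P) * (1 - Q)) := by
    refine isUnit_of_redM ?_
    have hPQ : redM Q = redM P := by rw [redM_mul, hA', hredB, hAB]
    have : redM (P * Q + (1 - P) * (1 - Q)) = 1 := by
      show (red p N).mapMatrix _ = 1
      rw [map_add, map_mul, map_mul, map_sub, map_sub, map_one]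
      show redM P * redM Q + (1 - redM P) * (1 - redM Q) = 1
      have hPP : redM P * redM P = redM P := by rw [← redM_mul, hP]
      rw [hPQ, Matrix.mul_sub, Matrix.sub_mul, Matrix.sub_mul, hPP]
      simp
    rw [this]; exact isUnit_one
  have he : P * (P * Q + (1 - P) * (1 - Q)) = (P * Q + (1 - P) * (1 - Q)) * Q := by
    have h1 : P * (1 - P) = 0 := by rw [Matrix.mul_sub, Matrix.mul_one, hP, sub_self]
    have h2 : (1 - Q) * Q = 0 := by rw [Matrix.sub_mul, Matrix.one_mul, hQ, sub_self]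
    have h3 : P * (P * Q) = P * Q := by rw [← Matrix.mul_assoc, hP]
    have h4 : P * Q * Q = P * Q := by rw [Matrix.mul_assoc, hQ]
    rw [Matrix.mul_add, Matrix.add_mul, h3, h4, ← Matrix.mul_assoc P (1 - P), h1, Matrix.zero_mul,
      Matrix.mul_assoc (1 - P) (1 - Q), h2, Matrix.mul_zero]
  rw [trace_eq_of_intertwine hS he, Matrix.trace_mul_comm, hB'', Matrix.trace_one]
  simp

/-- The inner product of a lifted representation with a linear character is a multiplicity. -/
theorem exists_sum_eq_card_mul {K : Type*} [Group K] [Fintype K] (hK : (Fintype.card K).Coprime p)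
    (σ : K →* Matrix ι ι (ZMod (p ^ (N + 1)))) (lam : K →* ZMod (p ^ (N + 1))) :
    ∃ r : ℕ, r ≤ Fintype.card ι ∧ ∑ k, lam k * (σ k).trace = (Fintype.card K * r : ℕ) := by
  have hu : IsUnit ((Fintype.card K : ℕ) : ZMod (p ^ (N + 1))) :=
    (ZMod.isUnit_iff_coprime _ _).2 (hK.pow_right _)
  obtain ⟨u, hu⟩ := hu
  set S : Matrix ι ι (ZMod (p ^ (N + 1))) := ∑ k, lam k • σ k
  have hSS : S * S = (Fintype.card K : ZMod (p ^ (N + 1))) • S := by
    have h1 : ∀ a : K, (lam a • σ a) * S = S := by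
      intro a
      rw [Finset.mul_sum]
      have h2 : ∀ k ∈ Finset.univ, (lam a • σ a) * (lam k • σ k) = lam (a * k) • σ (a * k) :=
        fun k _ => by rw [smul_mul_smul_comm, map_mul, map_mul]
      rw [Finset.sum_congr rfl h2]
      exact Fintype.sum_equiv (Equiv.mulLeft a) _ _ fun k => rfl
    conv_lhs => rw [show S * S = (∑ k, lam k • σ k) * S from rfl, Finset.sum_mul]
    rw [Finset.sum_congr rfl fun a _ => h1 a, Finset.sum_const, Finset.card_univ]
    rw [Nat.cast_smul_eq_nsmul]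
  set P := (↑u⁻¹ : ZMod (p ^ (N + 1))) • S
  have hP : P * P = P := by
    rw [smul_mul_smul_comm, hSS, smul_smul, mul_assoc, ← hu, Units.inv_mul, mul_one]
  obtain ⟨r, hr, htr⟩ := exists_trace_idem P hP
  refine ⟨r, hr, ?_⟩
  have hS : S.trace = (Fintype.card K : ZMod (p ^ (N + 1))) * r := by
    rw [← htr, Matrix.trace_smul, smul_eq_mul, ← mul_assoc, ← hu, Units.mul_inv, one_mul]
  rw [Nat.cast_mul, ← hS]
  simp [S, Matrix.trace_sum, Matrix.trace_smul]

end CfsgLib.AltSolvCent.Lift
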