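import Cfsg.Agent.Lib.AltSolvCent.FiveCodes
import Cfsg.Agent.Lib.AltSolvCent.LiftTrace

/-!
Lift traces of a representation of `A_10` over `ZMod 5`, and tables of subgroups with a linear
character, whose multiplicity is a combination of lift traces at class representatives.
-/

set_option autoImplicit false

namespace CfsgLib.AltSolvCent.Five

open Lift

/-- The product of two transpositions coded by four digits. -/
def swapTwo (q : ℕ) : A10 :=
  let i : Fin 10 := ⟨q % 10, Nat.mod_lt _ (by norm_num)⟩
  let j : Fin 10 := ⟨q / 10 % 10, Nat.mod_lt _ (by norm_num)⟩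
  let k : Fin 10 := ⟨q / 100 % 10, Nat.mod_lt _ (by norm_num)⟩
  let l : Fin 10 := ⟨q / 1000 % 10, Nat.mod_lt _ (by norm_num)⟩
  if h : i ≠ j ∧ k ≠ l then
    ⟨Equiv.swap i j * Equiv.swap k l, by
      rw [Equiv.Perm.mem_alternatingGroup, map_mul, Equiv.Perm.sign_swap h.1,
        Equiv.Perm.sign_swap h.2]; simp⟩
  else 1

/-- The element given by a list of pairs of transpositions. -/
def evalSwaps : List ℕ → A10
  | [] => 1
  | q :: l => swapTwo q * evalSwaps l

/-- Its code. -/
def codeSwaps : List ℕ → ℕ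
  | [] => idD
  | q :: l => mulD (encD (swapTwo q)) (codeSwaps l)

lemma codeSwaps_eq : ∀ l, codeSwaps l = encD (evalSwaps l)
  | [] => encD_one.symm
  | q :: l => by rw [codeSwaps, evalSwaps, ← encD_mul, codeSwaps_eq l]

variable {ι : Type*} [Fintype ι] [DecidableEq ι] {N : ℕ}

/-- The trace of a lift of exponent prime to five, if there is one. -/
noncomputable def traceLift (N : ℕ) (M : Matrix ι ι (ZMod 5)) : ZMod (5 ^ (N + 1)) := by
  classical
  exact if h : ∃ (X : Matrix ι ι (ZMod (5 ^ (N + 1)))) (m : ℕ), m.Coprime 5 ∧ X ^ m = 1 ∧ redM X = M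
    then h.choose.trace else 0

instance : Fact (Nat.Prime 5) := ⟨by decide⟩

lemma traceLift_eq {M : Matrix ι ι (ZMod 5)} {X : Matrix ι ι (ZMod (5 ^ (N + 1)))} {m : ℕ}
    (hm : m.Coprime 5) (hX : X ^ m = 1) (h : redM X = M) : traceLift N M = X.trace := by
  have hex : ∃ (X : Matrix ι ι (ZMod (5 ^ (N + 1)))) (m : ℕ), m.Coprime 5 ∧ X ^ m = 1 ∧ redM X = M :=
    ⟨X, m, hm, hX, h⟩
  rw [traceLift, dif_pos hex]
  obtain ⟨m', hm', hX', h'⟩ := hex.choose_spec
  exact trace_eq_of_lift hm' hm hX' hX (h'.trans h.symm)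

/-- The trace of a lifted homomorphism. -/
lemma traceLift_hom {K : Type*} [Group K] [Finite K] (hK : (Nat.card K).Coprime 5)
    (f : K →* Matrix ι ι (ZMod 5)) (σ : K →* Matrix ι ι (ZMod (5 ^ (N + 1))))
    (hσ : ∀ k, redM (σ k) = f k) (k : K) : traceLift N (f k) = (σ k).trace :=
  traceLift_eq hK (by rw [← map_pow, pow_card_eq_one', map_one]) (hσ k)

/-- Lift traces are class functions. -/
lemma traceLift_conj {G : Type*} [Group G] [Finite G] (f : G →* Matrix ι ι (ZMod 5)) {g h c : G}
    (hc : g * c = c * h) (hg : (orderOf g).Coprime 5) : traceLift N (f g) = traceLift N (f h) := by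
  obtain ⟨σ, hσ⟩ := exists_lift_hom (N := N) (K := Subgroup.zpowers g) (p := 5)
    (by rw [Nat.card_zpowers]; exact hg) (f.comp (Subgroup.zpowers g).subtype)
  obtain ⟨C, hC⟩ := exists_redM_eq (N := N) (f c)
  obtain ⟨C', hC'⟩ := exists_redM_eq (N := N) (f c⁻¹)
  have hU : IsUnit C := isUnit_of_redM (by rw [hC]; exact (Group.isUnit c).map f)
  obtain ⟨u, hu⟩ := hU
  set X := σ ⟨g, Subgroup.mem_zpowers g⟩
  have hXm : X ^ orderOf g = 1 := by
    rw [← map_pow, ← map_one σ]; congr 1; exact Subtype.ext (pow_orderOf_eq_one g)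
  rw [traceLift_eq (M := f g) hg hXm (hσ _)]
  set Y := (↑u⁻¹ : Matrix ι ι (ZMod (5 ^ (N + 1)))) * X * u
  have hYm : Y ^ orderOf g = 1 := by
    rw [show Y = ↑u⁻¹ * X * ↑(u⁻¹)⁻¹ by rw [inv_inv], Units.conj_pow, hXm, mul_one, Units.mul_inv_eq_one]
  have hinv : redM (↑u⁻¹ : Matrix ι ι (ZMod (5 ^ (N + 1)))) = f c⁻¹ := by
    have h1 := congrArg redM u.inv_mul
    rw [redM_mul, redM_one, hu, hC] at h1
    calc redM (↑u⁻¹ : Matrix ι ι (ZMod (5 ^ (N + 1))))
        = redM (↑u⁻¹ : Matrix ι ι (ZMod (5 ^ (N + 1)))) * (f c * f c⁻¹) := by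
          rw [← map_mul, mul_inv_cancel, map_one, mul_one]
      _ = _ := by rw [← mul_assoc, h1, one_mul]
  have hYr : redM Y = f h := by
    rw [redM_mul, redM_mul, hinv, hσ, hu, hC, MonoidHom.comp_apply, Subgroup.coe_subtype, ← map_mul,
      ← map_mul, mul_assoc, hc, inv_mul_cancel_left]
  rw [traceLift_eq hg hYm hYr, Matrix.trace_units_conj']

/-- A subgroup with a linear character of order two. -/
structure GroupData where
  gens : List (List ℕ)
  neg : List Bool
  size : ℕ
  table : ℕ
  steps : List (ℕ × ℕ)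
  trans : ℕ
  sign : ℕ
  cls : ℕ
  conjs : List (List ℕ)
  row : List ℤ

namespace GroupData

variable (D : GroupData)

/-- The target of an element under a generator. -/
def target (k i : ℕ) : ℕ := (D.trans >>> (12 * (k * D.size + i))) % 4096

/-- The sign of an element. -/
def isNeg (i : ℕ) : Bool := D.sign.testBit i

/-- The class of an element. -/
def clsOf (i : ℕ) : ℕ := (D.cls >>> (4 * i)) % 16

/-- The steps build the table. -/
def chkSteps : ℕ → List (ℕ × ℕ) → Bool
  | _, [] => true
  | i, (k, q) :: l =>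
    decide (q < i) && decide (k < D.gens.length) &&
      Nat.beq (tgetD D.table i) (mulD (codeSwaps (D.gens.getD k [])) (tgetD D.table q)) &&
      chkSteps (i + 1) l

/-- Every generator permutes the table and respects the signs. -/
def chkTrans : Bool :=
  (List.range D.gens.length).all fun k =>
    let c := codeSwaps (D.gens.getD k [])
    let s := D.neg.getD k false
    (List.range D.size).all fun i => decide (D.target k i < D.size) &&
      Nat.beq (tgetD D.table (D.target k i)) (mulD c (tgetD D.table i)) &&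
      (D.isNeg (D.target k i) == xor s (D.isNeg i))

/-- The table has no repetition. -/
def chkInj : Bool :=
  (List.range D.size).all fun i =>
    let a := tgetD D.table i
    (List.range i).all fun j => !(Nat.beq a (tgetD D.table j))

/-- The classes and conjugators. -/
def chkCls (reps : List (List ℕ)) : ℕ → List (List ℕ) → Bool
  | _, [] => true
  | i, c :: l =>
    decide (D.clsOf i < reps.length) &&
      Nat.beq (mulD (tgetD D.table i) (codeSwaps c))
        (mulD (codeSwaps c) (codeSwaps (reps.getD (D.clsOf i) []))) &&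
      chkCls reps (i + 1) l

/-- The coefficient of a class. -/
def coeff (t : ℕ) : ℤ :=
  ((List.range D.size).map fun i =>
    if Nat.beq (D.clsOf i) t then (if D.isNeg i then (-1 : ℤ) else 1) else 0).sum

/-- The whole check. -/
def check (reps : List (List ℕ)) : Bool :=
  decide (D.steps.length + 1 = D.size) && decide (D.conjs.length = D.size) &&
    decide (Nat.gcd D.size 5 = 1) && !(D.isNeg 0) &&
    Nat.beq (tgetD D.table 0) idD && D.chkSteps 1 D.steps && D.chkTrans && D.chkInj &&
    D.chkCls reps 0 D.conjs && decide (D.row.length = reps.length) &&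
    (List.range reps.length).all fun t => D.coeff t == D.row.getD t 0

/-- The subgroup. -/
def group : Subgroup A10 := Subgroup.closure {g | ∃ w ∈ D.gens, evalSwaps w = g}

lemma steps_spec : ∀ (l : List (ℕ × ℕ)) (i : ℕ), D.chkSteps i l = true →
    (∀ j < i, ∃ g ∈ D.group, encD g = tgetD D.table j) →
    ∀ j < i + l.length, ∃ g ∈ D.group, encD g = tgetD D.table j
  | [], i, _, hi => by simpa using hi
  | (k, q) :: l, i, h, hi => by
    simp only [chkSteps, Bool.and_eq_true, decide_eq_true_eq] at h
    obtain ⟨⟨⟨hq, hk⟩, he⟩, hl⟩ := h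
    intro j hj
    refine steps_spec l (i + 1) hl ?_ j (by simp at hj; omega)
    intro j hj
    rcases Nat.lt_succ_iff_lt_or_eq.1 hj with hj | rfl
    · exact hi j hj
    · obtain ⟨x, hx, hxe⟩ := hi q hq
      refine ⟨evalSwaps (D.gens.getD k []) * x, mul_mem (Subgroup.subset_closure ⟨_, ?_, rfl⟩) hx, ?_⟩
      · rw [List.getD_eq_getElem _ _ hk]; exact List.getElem_mem hk
      · rw [Nat.eq_of_beq_eq_true he, codeSwaps_eq, ← hxe, encD_mul]

lemma cls_spec (reps : List (List ℕ)) : ∀ (l : List (List ℕ)) (i : ℕ), D.chkCls reps i l = true →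
    ∀ j, i ≤ j → j < i + l.length → D.clsOf j < reps.length ∧ ∃ c : List ℕ,
      mulD (tgetD D.table j) (codeSwaps c) =
        mulD (codeSwaps c) (codeSwaps (reps.getD (D.clsOf j) []))
  | [], i, _, j, h1, h2 => by simp at h2; omega
  | c :: l, i, h, j, h1, h2 => by
    simp only [chkCls, Bool.and_eq_true, decide_eq_true_eq] at h
    rcases eq_or_lt_of_le h1 with rfl | h1
    · exact ⟨h.1.1, c, Nat.eq_of_beq_eq_true h.1.2⟩
    · exact cls_spec reps l (i + 1) h.2 j h1 (by simp at h2; omega)

/-- The multiplicity of the linear character is a combination of lift traces. -/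
theorem multiplicity {reps : List (List ℕ)} (h : D.check reps = true) (ρ : A10 →* Matrix ι ι (ZMod 5)) :
    ∃ r : ℕ, r ≤ Fintype.card ι ∧
      ∑ t ∈ Finset.range reps.length, ((D.row.getD t 0 : ℤ) : ZMod (5 ^ (N + 1))) *
        traceLift N (ρ (evalSwaps (reps.getD t []))) = ((D.size * r : ℕ) : ZMod (5 ^ (N + 1))) := by
  classical
  simp only [check, Bool.and_eq_true, decide_eq_true_eq, List.all_eq_true, List.mem_range,
    beq_iff_eq, Bool.not_eq_true'] at h
  obtain ⟨⟨⟨⟨⟨⟨⟨⟨⟨⟨hlen, hclen⟩, hcop⟩, hneg0⟩, h0⟩, hsteps⟩, htrans⟩, hinj⟩, hcls⟩, -⟩, hrow⟩ := h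
  have hel : ∀ j < D.size, ∃ g ∈ D.group, encD g = tgetD D.table j := fun j hj =>
    D.steps_spec D.steps 1 hsteps (fun k hk => ⟨1, one_mem _, by
      rw [Nat.lt_one_iff.1 hk, encD_one]; exact (Nat.eq_of_beq_eq_true h0).symm⟩) j (by omega)
  let e : Fin D.size → D.group := fun i => ⟨(hel i i.isLt).choose, (hel i i.isLt).choose_spec.1⟩
  have hee : ∀ i : Fin D.size, encD (e i : A10) = tgetD D.table i :=
    fun i => (hel i i.isLt).choose_spec.2
  simp only [chkTrans, List.all_eq_true, List.mem_range, Bool.and_eq_true, decide_eq_true_eq,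
    beq_iff_eq] at htrans
  have hgen : ∀ k < D.gens.length, ∀ i : Fin D.size, ∃ j : Fin D.size,
      evalSwaps (D.gens.getD k []) * (e i : A10) = e j ∧
      D.isNeg j = xor (D.neg.getD k false) (D.isNeg i) := by
    intro k hk i
    obtain ⟨⟨h1, h2⟩, h3⟩ := htrans k hk i i.isLt
    refine ⟨⟨_, h1⟩, encD_injective ?_, h3⟩
    rw [← encD_mul, ← codeSwaps_eq, hee, hee, Nat.eq_of_beq_eq_true h2]
  simp only [chkInj, List.all_eq_true, List.mem_range, Bool.not_eq_true'] at hinj
  have heinj : Function.Injective e := by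
    intro a b hab
    have heq : tgetD D.table a = tgetD D.table b := by rw [← hee, ← hee, hab]
    rcases lt_trichotomy (a : ℕ) b with hlt | heq' | hlt
    · have := hinj b b.isLt a hlt
      rw [heq] at this
      exact absurd (Nat.beq_refl _) (Bool.eq_false_iff.1 this)
    · exact Fin.ext heq'
    · have := hinj a a.isLt b hlt
      rw [heq] at this
      exact absurd (Nat.beq_refl _) (Bool.eq_false_iff.1 this)
  have hsz : 0 < D.size := by omega
  have he0 : e ⟨0, hsz⟩ = 1 := by
    refine Subtype.ext (encD_injective ?_)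
    rw [hee, Subgroup.coe_one, encD_one]; exact Nat.eq_of_beq_eq_true h0
  -- every element of the group permutes the table, respecting the signs
  let sgn : Fin D.size → ZMod (5 ^ (N + 1)) := fun i => if D.isNeg i then -1 else 1
  have hsgn0 : sgn ⟨0, hsz⟩ = 1 := by simp [sgn, hneg0]
  have hclosed : ∀ k : D.group, ∃ c : ZMod (5 ^ (N + 1)), ∀ i : Fin D.size, ∃ j : Fin D.size,
      (k : A10) * e i = e j ∧ sgn j = c * sgn i := by
    rintro ⟨k, hk⟩
    have hk' : k ∈ Submonoid.closure {g | ∃ w ∈ D.gens, evalSwaps w = g} := by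
      rw [← Subgroup.closure_toSubmonoid_of_finite]; exact hk
    induction hk' using Submonoid.closure_induction with
    | mem g hg =>
      obtain ⟨w, hw, rfl⟩ := hg
      obtain ⟨m, hm, rfl⟩ := List.getElem_of_mem hw
      refine ⟨if D.neg.getD m false then -1 else 1, fun i => ?_⟩
      obtain ⟨j, h1, h2⟩ := hgen m hm i
      rw [List.getD_eq_getElem _ _ hm] at h1
      refine ⟨j, h1, ?_⟩
      show (if D.isNeg j then (-1 : ZMod (5 ^ (N + 1))) else 1) = _ * (if D.isNeg i then -1 else 1)
      rw [h2]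
      cases D.neg.getD m false <;> cases D.isNeg i <;> simp
    | one => exact ⟨1, fun i => ⟨i, one_mul _, (one_mul _).symm⟩⟩
    | mul a b ha hb iha ihb =>
      have haG : a ∈ D.group := by
        show a ∈ (Subgroup.closure _).toSubmonoid
        rw [Subgroup.closure_toSubmonoid_of_finite]; exact ha
      have hbG : b ∈ D.group := by
        show b ∈ (Subgroup.closure _).toSubmonoid
        rw [Subgroup.closure_toSubmonoid_of_finite]; exact hb
      obtain ⟨ca, hca⟩ := iha haG
      obtain ⟨cb, hcb⟩ := ihb hbG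
      refine ⟨ca * cb, fun i => ?_⟩
      obtain ⟨j, hj1, hj2⟩ := hcb i
      obtain ⟨l, hl1, hl2⟩ := hca j
      refine ⟨l, ?_, ?_⟩
      · show a * b * _ = _
        rw [mul_assoc, hj1, hl1]
      · rw [hl2, hj2, mul_assoc]
  choose c hc using hclosed
  have hsurj : Function.Surjective e := fun k => by
    obtain ⟨j, hj, -⟩ := hc k ⟨0, hsz⟩
    rw [he0, Subgroup.coe_one, mul_one] at hj
    exact ⟨j, (Subtype.ext hj).symm⟩
  let φ := Equiv.ofBijective e ⟨heinj, hsurj⟩
  have hlam : ∀ (k : D.group) (i : Fin D.size), φ i = k → sgn i = c k := by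
    intro k i hi
    obtain ⟨j, hj, hj'⟩ := hc k ⟨0, hsz⟩
    rw [he0, Subgroup.coe_one, mul_one] at hj
    rw [hsgn0, mul_one] at hj'
    rw [← hj', show i = j from heinj (hi.trans (Subtype.ext hj))]
  let lam : D.group →* ZMod (5 ^ (N + 1)) :=
    { toFun := c
      map_one' := by
        rw [← hlam 1 ⟨0, hsz⟩ he0, hsgn0]
      map_mul' := fun a b => by
        obtain ⟨i, hi⟩ := hsurj b
        obtain ⟨j, hj1, hj2⟩ := hc a i
        rw [← hlam (a * b) j (Subtype.ext (show ((φ j : D.group) : A10) = a * b by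
          rw [← hi]; exact hj1.symm)), hj2, ← hlam b i hi] }
  haveI : Fintype D.group := Fintype.ofFinite _
  have hcard : Fintype.card D.group = D.size := by rw [← Fintype.card_congr φ, Fintype.card_fin]
  have hK : (Fintype.card D.group).Coprime 5 := by rw [hcard]; exact hcop
  obtain ⟨σ, hσ⟩ := exists_lift_hom (N := N) (K := D.group) (p := 5)
    (by rw [Nat.card_eq_fintype_card]; exact hK) (ρ.comp D.group.subtype)
  obtain ⟨r, hr, hsum⟩ := exists_sum_eq_card_mul hK σ lam
  refine ⟨r, hr, ?_⟩
  rw [← hcard, ← hsum, ← φ.sum_comp]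
  let v : ℕ → ZMod (5 ^ (N + 1)) := fun t => traceLift N (ρ (evalSwaps (reps.getD t [])))
  have hterm : ∀ i : Fin D.size, lam (φ i) * (σ (φ i)).trace = sgn i * v (D.clsOf i) := by
    intro i
    rw [show lam (φ i) = sgn i from (hlam (φ i) i rfl).symm]
    congr 1
    obtain ⟨-, w, hw⟩ := D.cls_spec reps D.conjs 0 hcls i (Nat.zero_le _) (by omega)
    rw [← traceLift_hom (by rw [Nat.card_eq_fintype_card]; exact hK) (ρ.comp D.group.subtype) σ hσ]
    refine traceLift_conj ρ (c := evalSwaps w) ?_ ?_
    · refine encD_injective ?_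
      rw [← encD_mul, ← encD_mul, ← codeSwaps_eq, ← codeSwaps_eq]
      show mulD (encD (e i : A10)) _ = _
      rw [hee]; exact hw
    · refine Nat.Coprime.coprime_dvd_left ?_ hcop
      show orderOf ((φ i : D.group) : A10) ∣ D.size
      rw [Subgroup.orderOf_coe]
      exact orderOf_dvd_card.trans (dvd_of_eq hcard)
  rw [Finset.sum_congr rfl fun i _ => hterm i]
  have hrow' : ∀ t < reps.length, (D.row.getD t 0 : ℤ) = D.coeff t := fun t ht => (hrow t ht).symm
  calc ∑ t ∈ Finset.range reps.length, ((D.row.getD t 0 : ℤ) : ZMod (5 ^ (N + 1))) * v t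
      = ∑ t ∈ Finset.range reps.length, ∑ i : Fin D.size,
          (if D.clsOf i = t then sgn i * v t else 0) := by
        refine Finset.sum_congr rfl fun t ht => ?_
        rw [hrow' t (Finset.mem_range.1 ht), coeff, Int.cast_list_sum, List.map_map,
          Fin.sum_univ_eq_sum_range (fun i => if D.clsOf i = t then
            (if D.isNeg i then (-1 : ZMod (5 ^ (N + 1))) else 1) * v t else 0),
          ← List.sum_map_mul_right]
        rw [← List.sum_toFinset _ (List.nodup_range)]
        refine Finset.sum_congr (by ext; simp) fun i _ => ?_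
        simp only [Function.comp_apply]
        by_cases hit : D.clsOf i = t
        · rw [if_pos (by rw [hit]; exact Nat.beq_refl t), if_pos hit]
          cases D.isNeg i <;> simp
        · rw [if_neg (fun hb => hit (Nat.eq_of_beq_eq_true hb)), if_neg hit]
          simp
    _ = _ := by
        rw [Finset.sum_comm]
        refine Finset.sum_congr rfl fun i _ => ?_
        rw [Finset.sum_ite_eq, if_pos (Finset.mem_range.2
          (D.cls_spec reps D.conjs 0 hcls i (Nat.zero_le _) (by omega)).1)]

end GroupData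

end CfsgLib.AltSolvCent.Five
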