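import Cfsg.Agent.Lib.AltSolvCent.FiveData
import Cfsg.Agent.Lib.AltSolvCent.FiveCodes

/-!
The two copies of the alternating group of degree five inside `A_10`. Machine written in part.
-/

set_option autoImplicit false
set_option maxRecDepth 20000

namespace CfsgLib.AltSolvCent.Five

/-- Codes of the elements on the first five points. -/
def codesLo : ℕ := 0x987653401298765034129876540312987653420198765341209876503124987654012398765234019876542301987654132098765032419876540231987652314098765230149876513420987654201398765123409876541203987653124098765012349876530214987651320498765130429876542130987651203498765124039876541032987653241098765023149876531402987650134298765301429876520134987652410398765321049876502143987653204198765024319876531024987650142398765304219876521304987652034198765240319876510324987651402398765210439876521430987652041398765243109876510243987651423098765042139876510432987651430298765041329876543102987650432198765430219876543210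

/-- Codes of the elements on the last five points. -/
def codesHi : ℕ := 0x895674321058967432109586743210897564321089675432105867943210956784321078956432109785643210968754321058796432109578643210786954321078569432106897543210975684321067895432109675843210867954321056789432108576943210687594321068597432109768543210675894321067958432109658743210879654321057869432108695743210568974321085697432107568943210796584321087659432105769843210875964321057986432108657943210569784321085976432107685943210758964321079586432106587943210695784321076598432107698543210759684321079865432106579843210697854321059768432106598743210698574321059687432109865743210598764321098576432109876543210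

/-- Words for the generators of the four kinds. -/
def kindWords : List (List ℕ) := [[2, 3067], [4015, 15023], [8030, 46427], [943411, 686885]]

/-- Commutator witnesses. -/
def kindWit : List (List (List ℕ × List ℕ)) :=
  [[([0, 0], [1, 1, 0, 0, 1, 0, 1]), ([0], [0, 1, 0, 1])],
   [([0, 0], [1, 1, 0, 0, 1, 0, 1]), ([0], [0, 1, 0, 1])],
   [([0, 0], [1, 1, 0, 0, 1, 0, 1]), ([0], [0, 1, 0, 1])],
   [([0, 0], [1, 1, 0, 0, 1, 0, 1]), ([0], [0, 1, 0, 1])]]

/-- The pair on the first five points. -/
def loPair : Pair where
  x := ⟨Equiv.swap 0 1 * Equiv.swap 1 2, by rw [Equiv.Perm.mem_alternatingGroup]; decide⟩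
  y := ⟨Equiv.swap 0 1 * Equiv.swap 1 2 * Equiv.swap 2 3 * Equiv.swap 3 4, by
    rw [Equiv.Perm.mem_alternatingGroup]; simp⟩
  cx := packD 1 2 0 3 4 5 6 7 8 9
  cy := packD 1 2 3 4 0 5 6 7 8 9
  hx := by decide
  hy := by decide

/-- The pair on the last five points. -/
def hiPair : Pair where
  x := ⟨Equiv.swap 5 6 * Equiv.swap 6 7, by rw [Equiv.Perm.mem_alternatingGroup]; decide⟩
  y := ⟨Equiv.swap 5 6 * Equiv.swap 6 7 * Equiv.swap 7 8 * Equiv.swap 8 9, by
    rw [Equiv.Perm.mem_alternatingGroup]; simp⟩
  cx := packD 0 1 2 3 4 6 7 5 8 9
  cy := packD 0 1 2 3 4 6 7 8 9 5
  hx := by decide
  hy := by decide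

/-- The word of an element of the table group. -/
def wordAt (i : ℕ) : List Bool := dw (wordsSixty.getD i 1)

/-- The element of a pair with a given index. -/
def elemAt (P : Pair) (i : ℕ) : A10 := P.eval (wordAt i)

/-- A pair realises the tables. -/
def pairOk (P : Pair) (T : ℕ) : Bool :=
  (List.range 60).all (fun i => Nat.beq (P.code (wordAt i)) (tgetD T i) &&
    (List.range 60).all fun j => Nat.beq (mulD (tgetD T i) (tgetD T j)) (tgetD T (tablesA5.mt i j))) &&
    Nat.beq (tgetD T 0) idD

theorem pairOk_lo : pairOk loPair codesLo = true := by decide +kernel

theorem pairOk_hi : pairOk hiPair codesHi = true := by decide +kernel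

/-- The kinds are perfect and are generated by the stated products. -/
def kindsOk : Bool :=
  decide (kindWords.length = cosKinds.length) && decide (kindWit.length = cosKinds.length) &&
    (List.range cosKinds.length).all fun k =>
      chkCommWit bigPair ((kindWords.getD k []).map dw) (kindWit.getD k []) &&
        decide ((kindWords.getD k []).length = (cosKinds.getD k []).length) &&
        ((kindWords.getD k []).zip (cosKinds.getD k [])).all fun q =>
          Nat.beq (bigPair.code (dw q.1)) (mulD (tgetD codesLo q.2.1) (tgetD codesHi q.2.2)) &&
            decide (q.2.1 < 60) && decide (q.2.2 < 60)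

theorem kindsOk_eq : kindsOk = true := by decide +kernel

end CfsgLib.AltSolvCent.Five
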