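import Cfsg.Agent.Lib.AltSolvCent.Cover
import Mathlib.GroupTheory.Perm.ViaEmbedding
import Mathlib.GroupTheory.Perm.Fin
import Mathlib.GroupTheory.Frattini

/-!
From a section `A_d` to a minimal cover of `A_n`, `n ≤ d`, and the choice of the permutations.
-/

set_option autoImplicit false

namespace CfsgLib.AltSolvCent

open Subgroup

universe u

/-- The alternating group of an embedded set inside the alternating group. -/
noncomputable def altEmbed {α β : Type*} [Fintype α] [DecidableEq α] [Fintype β] [DecidableEq β]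
    (ι : α ↪ β) : alternatingGroup α →* alternatingGroup β where
  toFun g := ⟨Equiv.Perm.viaEmbeddingHom ι g, by
    classical
    rw [Equiv.Perm.mem_alternatingGroup, Equiv.Perm.viaEmbeddingHom_apply, Equiv.Perm.viaEmbedding,
      Equiv.Perm.sign_extendDomain]
    exact g.2⟩
  map_one' := Subtype.ext (map_one _)
  map_mul' a b := Subtype.ext (map_mul _ _ _)

lemma altEmbed_injective {α β : Type*} [Fintype α] [DecidableEq α] [Fintype β] [DecidableEq β]
    (ι : α ↪ β) : Function.Injective (altEmbed ι) := fun _ _ h =>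
  Subtype.ext (Equiv.Perm.viaEmbeddingHom_injective ι (congrArg Subtype.val h))

lemma not_isSolvable_alternating {α : Type*} [Fintype α] [DecidableEq α] (h : 5 ≤ Fintype.card α) :
    ¬ Group.IsSolvable (alternatingGroup α) := by
  intro hs
  haveI := hs
  refine Equiv.Perm.not_isSolvable α (by rw [Cardinal.mk_fintype]; exact_mod_cast h) ?_
  exact Group.isSolvable_of_ker_le_range (alternatingGroup α).subtype Equiv.Perm.sign
    (by rw [range_subtype]; exact le_rfl)

/-- A non-solvable subgroup centralising the image of a permutation with disjoint support. -/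
lemma exists_pair {p m n : ℕ} (ι : Fin m ↪ Fin n) (κ : Fin 5 ↪ Fin n)
    (hd : ∀ i j, ι i ≠ κ j) (σ : alternatingGroup (Fin m)) (hσ : orderOf σ = p) :
    ∃ (π : alternatingGroup (Fin n)) (E : Subgroup (alternatingGroup (Fin n))),
      orderOf π = p ∧ (∀ e ∈ E, e * π = π * e) ∧ ¬ Group.IsSolvable E ∧ Nat.card E = 60 := by
  refine ⟨altEmbed ι σ, (altEmbed κ).range, ?_, ?_, ?_, ?_⟩
  · rw [orderOf_injective _ (altEmbed_injective ι), hσ]
  · rintro _ ⟨e, rfl⟩
    refine Subtype.ext ?_
    show (Equiv.Perm.viaEmbeddingHom κ e.1) * Equiv.Perm.viaEmbeddingHom ι σ.1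
      = Equiv.Perm.viaEmbeddingHom ι σ.1 * Equiv.Perm.viaEmbeddingHom κ e.1
    refine Equiv.Perm.Disjoint.commute fun x => ?_
    by_cases hx : x ∈ Set.range κ
    · obtain ⟨j, rfl⟩ := hx
      right
      exact Equiv.Perm.viaEmbedding_apply_of_notMem _ _ _ fun ⟨i, hi⟩ => hd i j hi
    · left
      exact Equiv.Perm.viaEmbedding_apply_of_notMem _ _ _ hx
  · intro h
    refine not_isSolvable_alternating (α := Fin 5) (by simp) ?_
    haveI := h
    exact Group.isSolvable_of_isSolvable_injective
      (f := (altEmbed κ).rangeRestrict) fun a b e => altEmbed_injective κ (congrArg Subtype.val e)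
  · rw [← Nat.card_congr (MonoidHom.ofInjective (altEmbed_injective κ)).toEquiv,
      nat_card_alternatingGroup, Nat.card_fin]
    rfl

/-- The data for an odd prime. -/
lemma exists_pair_odd {p : ℕ} [Fact p.Prime] (hp : p ≠ 2) :
    ∃ (π : alternatingGroup (Fin (p + 5))) (E : Subgroup (alternatingGroup (Fin (p + 5)))),
      orderOf π = p ∧ (∀ e ∈ E, e * π = π * e) ∧ ¬ Group.IsSolvable E ∧ Nat.card E = 60 := by
  have hpp : p.Prime := Fact.out
  have hodd : Odd p := hpp.odd_of_ne_two hp
  have heven : Even (p - 1) := Nat.Odd.sub_odd hodd odd_one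
  refine exists_pair (m := p) (Fin.castAddEmb 5) (Fin.natAddEmb p) (fun i j e => ?_)
    ⟨finRotate p, by rw [Equiv.Perm.mem_alternatingGroup, sign_finRotate, Even.neg_one_pow heven]⟩ ?_
  · have h := congrArg Fin.val e
    change (i : ℕ) = _ + (j : ℕ) at h
    omega
  · rw [← Subgroup.orderOf_coe]
    show orderOf (finRotate p) = p
    rw [(isCycle_finRotate_of_le hpp.two_le).orderOf, support_finRotate_of_le hpp.two_le,
      Finset.card_univ, Fintype.card_fin]

/-- The data for `p = 2`. -/
lemma exists_pair_two :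
    ∃ (π : alternatingGroup (Fin (4 + 5))) (E : Subgroup (alternatingGroup (Fin (4 + 5)))),
      orderOf π = 2 ∧ (∀ e ∈ E, e * π = π * e) ∧ ¬ Group.IsSolvable E ∧ Nat.card E = 60 := by
  haveI : Fact (Nat.Prime 2) := ⟨Nat.prime_two⟩
  refine exists_pair (m := 4) (Fin.castAddEmb 5) (Fin.natAddEmb 4) (fun i j e => ?_)
    ⟨Equiv.swap 0 1 * Equiv.swap 2 3, by rw [Equiv.Perm.mem_alternatingGroup]; decide⟩ ?_
  · have h := congrArg Fin.val e
    change (i : ℕ) = _ + (j : ℕ) at h
    omega
  · refine orderOf_eq_prime (Subtype.ext ?_) ?_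
    · show (Equiv.swap 0 1 * Equiv.swap 2 3 : Equiv.Perm (Fin 4)) ^ 2 = 1
      decide
    · intro h
      have := congrArg Subtype.val h
      exact absurd this (by decide)

/-- A section `A_d` gives a minimal cover of `A_n` for `5 ≤ n ≤ d`. -/
lemma exists_cover {G : Type u} [Group G] [Finite G] {d n p : ℕ} (hn : 5 ≤ n) (hnd : n ≤ d)
    (h : SolvCentHyp p G) (hinv : Cfsg.Involves (alternatingGroup (Fin d)) G) :
    ∃ (H : Subgroup G) (f : H →* alternatingGroup (Fin n)), Function.Surjective f ∧
      Group.IsNilpotent f.ker ∧ commutator H = ⊤ ∧ SolvCentHyp p H := by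
  classical
  obtain ⟨K, R, hRn, ⟨φ⟩⟩ := hinv
  haveI := hRn
  let g : K →* alternatingGroup (Fin d) := φ.toMonoidHom.comp (QuotientGroup.mk' (R.subgroupOf K))
  have hg : Function.Surjective g := φ.surjective.comp (QuotientGroup.mk'_surjective _)
  set A := (altEmbed (Fin.castLEEmb hnd)).range
  let ψ := MonoidHom.ofInjective (altEmbed_injective (Fin.castLEEmb hnd))
  let S : Set (Subgroup G) := {H | ∃ f : H →* alternatingGroup (Fin n), Function.Surjective f}
  have hne : S.Nonempty := by
    refine ⟨(A.comap g).map K.subtype, ?_⟩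
    let e := ((A.comap g).equivMapOfInjective K.subtype K.subtype_injective).symm
    refine ⟨ψ.symm.toMonoidHom.comp ((g.subgroupComap A).comp e.toMonoidHom), fun a => ?_⟩
    obtain ⟨k, hk⟩ := hg (ψ a : alternatingGroup (Fin d))
    have hkA : k ∈ A.comap g := by show g k ∈ A; rw [hk]; exact (ψ a).2
    refine ⟨e.symm ⟨k, hkA⟩, ?_⟩
    show ψ.symm ((g.subgroupComap A) (e (e.symm ⟨k, hkA⟩))) = a
    rw [e.apply_symm_apply, MulEquiv.symm_apply_eq]
    exact Subtype.ext hk
  obtain ⟨H, ⟨f, hf⟩, hmin⟩ :=
    Set.exists_min_image S (fun H => Nat.card H) (Set.toFinite S) hne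
  have hproper : ∀ M : Subgroup H, M.map f = ⊤ → M = ⊤ := by
    intro M hM
    have hMS : M.map H.subtype ∈ S := by
      let e := (M.equivMapOfInjective H.subtype H.subtype_injective).symm
      refine ⟨(f.comp M.subtype).comp e.toMonoidHom, fun a => ?_⟩
      obtain ⟨m, hm, rfl⟩ := (hM ▸ mem_top a : a ∈ M.map f)
      refine ⟨e.symm ⟨m, hm⟩, ?_⟩
      show f (M.subtype (e (e.symm ⟨m, hm⟩))) = f m
      rw [e.apply_symm_apply]; rfl
    have h1 : Nat.card H ≤ Nat.card M := by
      rw [← Subgroup.card_subtype H M]; exact hmin _ hMS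
    exact Subgroup.eq_top_of_card_eq M (le_antisymm (Subgroup.card_le_card_group M) h1)
  refine ⟨H, f, hf, ?_, ?_, ?_⟩
  · have hle : f.ker ≤ frattini H := by
      rw [frattini, Order.radical]
      refine le_iInf₂ fun M hM => ?_
      by_contra hnle
      refine hM.1 (hproper M ?_)
      have htop : M ⊔ f.ker = ⊤ := hM.2 _ (left_lt_sup.2 hnle)
      rw [← map_top_of_surjective f hf, ← htop, Subgroup.map_sup,
        (Subgroup.map_eq_bot_iff _).2 le_rfl, sup_bot_eq]
    haveI := frattini_nilpotent (G := H)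
    exact Group.nilpotent_of_mulEquiv (subgroupOfEquivOfLe hle)
  · refine hproper _ ?_
    rw [_root_.commutator_def, map_commutator, map_top_of_surjective f hf, ← _root_.commutator_def]
    exact commutator_alternatingGroup_eq_top (by rw [Nat.card_fin]; exact hn)
  · intro x hx ⟨k, hk⟩
    have hxG : (x : G) ∉ center G := fun hc => hx <| mem_center_iff.2 fun y =>
      Subtype.ext (mem_center_iff.1 hc y)
    haveI := h (x : G) hxG ⟨k, by rw [Subgroup.orderOf_coe, hk]⟩
    let i : centralizer ({x} : Set H) →* centralizer ({(x : G)} : Set G) :=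
      (H.subtype.comp (centralizer ({x} : Set H)).subtype).codRestrict _ fun c => by
        rw [mem_centralizer_singleton_iff]
        exact congrArg Subtype.val (mem_centralizer_singleton_iff.1 c.2)
    exact Group.isSolvable_of_isSolvable_injective (f := i) fun a b e =>
      Subtype.ext (Subtype.ext (congrArg Subtype.val e :))

/-- The statement, given the two module properties. -/
theorem degree_bound {G : Type u} [Group G] [Finite G] {p : ℕ} [Fact p.Prime] (hp3 : p ≠ 3)
    (h2 : FixedVectorProp.{u} 2 (4 + 5)) (h5 : FixedVectorProp.{u} 5 (5 + 5))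
    (h : SolvCentHyp p G) {d : ℕ} (hinv : Cfsg.Involves (alternatingGroup (Fin d)) G) :
    d ≤ p + 4 + (if p = 2 then 2 else 0) := by
  have hpp : p.Prime := Fact.out
  by_contra hcon
  by_cases hp2 : p = 2
  · subst hp2
    simp only [if_true] at hcon
    obtain ⟨π, E, hπ, hE, hEns, -⟩ := exists_pair_two
    obtain ⟨H, f, hf, hker, hperf, hH⟩ := exists_cover (n := 4 + 5) (by norm_num) (by omega) h hinv
    exact false_of_cover (by norm_num) hf hker hperf hH π hπ E hE hEns (Or.inr h2)
  · simp only [hp2, if_false] at hcon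
    obtain ⟨π, E, hπ, hE, hEns, hcard⟩ := exists_pair_odd (p := p) hp2
    obtain ⟨H, f, hf, hker, hperf, hH⟩ := exists_cover (n := p + 5) (by omega) (by omega) h hinv
    refine false_of_cover (by omega) hf hker hperf hH π hπ E hE hEns ?_
    by_cases hp5 : p = 5
    · subst hp5; exact Or.inr h5
    · left
      rw [hcard]
      refine (Nat.Coprime.symm ((hpp.coprime_iff_not_dvd).2 fun hd => ?_))
      have h60 : p ≤ 60 := Nat.le_of_dvd (by norm_num) hd
      interval_cases p <;> first | omega | (norm_num at hd hpp) | (exact absurd hpp (by decide))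

end CfsgLib.AltSolvCent
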