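import Cfsg.Agent.Lib.AltSolvCent.FiveSide
import Cfsg.Agent.Lib.AltSolvCent.FiveCountData
import Cfsg.Agent.Lib.AltSolvCent.Reduction
import Mathlib.LinearAlgebra.Dimension.StrongRankCondition
import Mathlib.LinearAlgebra.Matrix.ToLinearEquiv

/-!
In every elementary abelian five-group on which `A_10` acts without fixed points, some non-solvable
subgroup fixes a non-identity element.
-/

set_option autoImplicit false

namespace CfsgLib.AltSolvCent.Five

open Matrix Lift

theorem classReps_spec :
    (∀ t : Fin 6, encD (evalSwaps (classReps.getD t.val [])) =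
      ![idD, mulD (tgetD codesLo ixS) (tgetD codesHi 0), mulD (tgetD codesLo ixG) (tgetD codesHi 0),
        mulD (tgetD codesLo ixS) (tgetD codesHi ixS), mulD (tgetD codesLo ixS) (tgetD codesHi ixG),
        mulD (tgetD codesLo ixG) (tgetD codesHi ixG)] t) ∧
    mulD (mulD (tgetD codesLo 0) (tgetD codesHi ixG)) (codeSwaps (pairConj.getD 0 [])) =
      mulD (codeSwaps (pairConj.getD 0 [])) (encD (evalSwaps (classReps.getD 2 []))) ∧
    mulD (mulD (tgetD codesLo ixG) (tgetD codesHi ixS)) (codeSwaps (pairConj.getD 1 [])) =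
      mulD (codeSwaps (pairConj.getD 1 [])) (encD (evalSwaps (classReps.getD 4 []))) := by
  decide +kernel

theorem fourHom_spec :
    encD (fourHom 0 (by norm_num) fourS) = tgetD codesLo ixS ∧
    encD (fourHom 0 (by norm_num) fourU) = tgetD codesLo ixU ∧
    encD (fourHom 0 (by norm_num) fourG) = tgetD codesLo ixG ∧
    encD (fourHom 5 (by norm_num) fourS) = tgetD codesHi ixS ∧
    encD (fourHom 5 (by norm_num) fourU) = tgetD codesHi ixU ∧
    encD (fourHom 5 (by norm_num) fourG) = tgetD codesHi ixG ∧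
    ∀ g : alternatingGroup (Fin 4),
      mulD (encD (fourHom 5 (by norm_num) g)) loPair.cx =
        mulD loPair.cx (encD (fourHom 5 (by norm_num) g)) ∧
      mulD (encD (fourHom 5 (by norm_num) g)) loPair.cy =
        mulD loPair.cy (encD (fourHom 5 (by norm_num) g)) ∧
      mulD (encD (fourHom 0 (by norm_num) g)) hiPair.cx =
        mulD hiPair.cx (encD (fourHom 0 (by norm_num) g)) ∧
      mulD (encD (fourHom 0 (by norm_num) g)) hiPair.cy =
        mulD hiPair.cy (encD (fourHom 0 (by norm_num) g)) := by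
  decide +kernel

/-- The eight groups. -/
def countGroups : List GroupData := [group0, group1, group2, group3, group4, group5, group6, group7]

theorem not_noFixedVector {n : ℕ} (hn : 0 < n) (ρ : A10 →* Matrix (Fin n) (Fin n) (ZMod 5)) :
    ¬ NoFixedVector ρ := by
  intro hno
  set N : ℕ := 500000 * n with hN
  obtain ⟨f1, f2, f3, f4, f5, f6, f7⟩ := fourHom_spec
  have el := fun {P : Pair} {T : ℕ} (h : pairOk P T = true) => (elem_spec h).1
  have hcx : ∀ {g x : A10} {c : ℕ}, encD x = c → mulD (encD g) c = mulD c (encD g) → Commute g x := by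
    intro g x c hx he
    refine encD_injective ?_
    rw [← encD_mul, ← encD_mul, hx]; exact he
  obtain ⟨ra, Ma, Ma', va, hMa, hMa', heMa, hMae, hva, hYa⟩ :=
    exists_side ρ N loPair hiPair pairOk_lo pairOk_hi commute_lo_hi (vE_mul_vE ρ hno)
      (fourHom 5 (by norm_num))
      (encD_injective (f4.trans (el pairOk_hi _ (by decide)).symm))
      (encD_injective (f5.trans (el pairOk_hi _ (by decide)).symm))
      (encD_injective (f6.trans (el pairOk_hi _ (by decide)).symm))
      (fun g => ⟨hcx loPair.hx (f7 g).1, hcx loPair.hy (f7 g).2.1⟩)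
  obtain ⟨rb, Mb, Mb', vb, hMb, hMb', heMb, hMbe, hvb, hYb⟩ :=
    exists_side ρ N hiPair loPair pairOk_hi pairOk_lo (fun l m => (commute_lo_hi m l).symm)
      ((act_commute ρ vE vE).symm.trans (vE_mul_vE ρ hno))
      (fourHom 0 (by norm_num))
      (encD_injective (f1.trans (el pairOk_lo _ (by decide)).symm))
      (encD_injective (f2.trans (el pairOk_lo _ (by decide)).symm))
      (encD_injective (f3.trans (el pairOk_lo _ (by decide)).symm))
      (fun g => ⟨hcx hiPair.hx (f7 g).2.2.1, hcx hiPair.hy (f7 g).2.2.2⟩)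
  set e := (loRep ρ).act vE
  set e' := (hiRep ρ).act vE
  have hsum : e + e' = 1 := vE_add_vE ρ hno
  have hab : Ma' * Mb = 0 := by
    rw [← show Ma' * e = Ma' from hMae, ← show e' * Mb = Mb from heMb]
    rw [Matrix.mul_assoc, ← Matrix.mul_assoc e e', show e * e' = 0 from vE_mul_vE ρ hno,
      Matrix.zero_mul, Matrix.mul_zero]
  have hba : Mb' * Ma = 0 := by
    rw [← show Mb' * e' = Mb' from hMbe, ← show e * Ma = Ma from heMa]
    rw [Matrix.mul_assoc, ← Matrix.mul_assoc e' e,
      show e' * e = 0 from (act_commute ρ vE vE).symm.trans (vE_mul_vE ρ hno),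
      Matrix.zero_mul, Matrix.mul_zero]
  -- coordinates on the whole space
  let J := (Fin 5 × Fin ra) ⊕ (Fin 5 × Fin rb)
  set M : Matrix (Fin n) J (ZMod 5) := fromCols Ma Mb
  set M' : Matrix J (Fin n) (ZMod 5) := fromRows Ma' Mb'
  have hMM' : M * M' = 1 := by
    rw [fromCols_mul_fromRows, show Ma * Ma' = e from hMa', show Mb * Mb' = e' from hMb']; exact hsum
  have hM'M : M' * M = 1 := by
    rw [fromRows_mul_fromCols, hMa, hab, hba, hMb, fromBlocks_one]
  have hcardJ : Fintype.card J = n := by
    have h1 : Function.Injective M.toLin' := fun x y h => by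
      have := congrArg M'.toLin' h
      simpa [Matrix.toLin'_apply, Matrix.mulVec_mulVec, hM'M] using this
    have h2 : Function.Injective M'.toLin' := fun x y h => by
      have := congrArg M.toLin' h
      simpa [Matrix.toLin'_apply, Matrix.mulVec_mulVec, hMM'] using this
    have e1 := LinearMap.finrank_le_finrank_of_injective h1
    have e2 := LinearMap.finrank_le_finrank_of_injective h2
    rw [Module.finrank_pi, Module.finrank_pi] at e1 e2
    rw [Fintype.card_fin] at e1 e2
    omega
  let φ : J ≃ Fin n := Fintype.equivFinOfCardEq hcardJ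
  -- the trace of a product of two elements
  have htr : ∀ g h : Fin 3, traceLift N (ρ (elemAt loPair (useIx g) * elemAt hiPair (useIx h))) =
      (useTr g : (ZMod (5 ^ (N + 1)))) * va h + (useTr h : (ZMod (5 ^ (N + 1)))) * vb g := by
    intro g h
    obtain ⟨Ya, hYa6, hYaM, hYat⟩ := hYa g h
    obtain ⟨Yb, hYb6, hYbM, hYbt⟩ := hYb h g
    rw [← show elemAt loPair (useIx g) * elemAt hiPair (useIx h) =
      elemAt hiPair (useIx h) * elemAt loPair (useIx g) from (commute_lo_hi _ _).eq] at hYbM
    change ρ (elemAt loPair (useIx g) * elemAt hiPair (useIx h)) * Mb = _ at hYbM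
    set w := ρ (elemAt loPair (useIx g) * elemAt hiPair (useIx h))
    set Y : Matrix J J (ZMod (5 ^ (N + 1))) := fromBlocks Ya 0 0 Yb
    have hY6 : Y ^ 6 = 1 := by
      have : ∀ k : ℕ, Y ^ k = fromBlocks (Ya ^ k) 0 0 (Yb ^ k) := by
        intro k
        induction k with
        | zero => simp
        | succ k ih =>
          rw [pow_succ Y, pow_succ Ya, pow_succ Yb, ih, fromBlocks_multiply]
          simp
      rw [this, hYa6, hYb6, fromBlocks_one]
    have hwY : w * M = M * redM Y := by
      rw [show redM Y = fromBlocks (redM Ya) 0 0 (redM Yb) by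
        ext i j; rcases i with i | i <;> rcases j with j | j <;> simp [redM, Y]]
      rw [mul_fromCols, fromCols_mul_fromBlocks, hYaM, hYbM]
      simp
    -- transport to the given coordinates
    set Q : Matrix (Fin n) (Fin n) (ZMod 5) := M.reindex (Equiv.refl _) φ
    set Q' : Matrix (Fin n) (Fin n) (ZMod 5) := M'.reindex φ (Equiv.refl _)
    have hQQ : Q * Q' = 1 := by
      rw [← hMM']; simp [Q, Q', Matrix.submatrix_mul_equiv]
    obtain ⟨X, hX⟩ := exists_redM_eq (N := N) Q
    have hXu : IsUnit X := isUnit_of_redM (hX ▸ IsUnit.of_mul_eq_one _ hQQ)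
    obtain ⟨u, hu⟩ := hXu
    set Y' : Matrix (Fin n) (Fin n) (ZMod (5 ^ (N + 1))) := Y.reindex φ φ
    have hY'6 : Y' ^ 6 = 1 := by
      show (Matrix.reindexAlgEquiv (ZMod (5 ^ (N + 1))) (ZMod (5 ^ (N + 1))) φ Y) ^ 6 = 1
      rw [← map_pow, hY6, map_one]
    set Z := (u : Matrix (Fin n) (Fin n) (ZMod (5 ^ (N + 1)))) * Y' * (↑u⁻¹ : Matrix (Fin n) (Fin n) (ZMod (5 ^ (N + 1))))
    have hZ6 : Z ^ 6 = 1 := by rw [Units.conj_pow, hY'6, mul_one, Units.mul_inv]
    have hQinv : redM (↑u⁻¹ : Matrix (Fin n) (Fin n) (ZMod (5 ^ (N + 1)))) = Q' := by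
      have h1 := congrArg redM u.inv_mul
      rw [redM_mul, redM_one, hu, hX] at h1
      calc redM (↑u⁻¹ : Matrix (Fin n) (Fin n) (ZMod (5 ^ (N + 1))))
          = redM (↑u⁻¹ : Matrix (Fin n) (Fin n) (ZMod (5 ^ (N + 1)))) * (Q * Q') := by rw [hQQ, Matrix.mul_one]
        _ = Q' := by rw [← Matrix.mul_assoc, h1, Matrix.one_mul]
    have hwQ : w * Q = Q * redM Y' := by
      have e1 : redM Y' = (redM Y).submatrix φ.symm φ.symm := rfl
      have e2 : Q = M.submatrix id φ.symm := rfl
      rw [e1, e2, Matrix.submatrix_mul_equiv, ← hwY]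
      ext i j
      simp [Matrix.mul_apply]
    have hZw : redM Z = w := by
      rw [redM_mul, redM_mul, hu, hX, hQinv, ← hwQ, Matrix.mul_assoc, hQQ, Matrix.mul_one]
    rw [traceLift_eq (m := 6) (by decide) hZ6 hZw, trace_units_conj]
    have e3 : Y'.trace = Y.trace := by
      simp only [Matrix.trace, Matrix.diag, Y', Matrix.reindex_apply, Matrix.submatrix_apply]
      exact Equiv.sum_comp φ.symm (fun i => Y i i)
    rw [e3, Matrix.trace, Fintype.sum_sum_type]
    simp only [Y, Matrix.diag, fromBlocks_apply₁₁, fromBlocks_apply₂₂]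
    exact congrArg₂ (· + ·) hYat hYbt
  -- the six classes
  obtain ⟨hcls, hc0, hc1⟩ := classReps_spec
  let x : ℕ → (ZMod (5 ^ (N + 1))) := fun t => traceLift N (ρ (evalSwaps (classReps.getD t [])))
  have hprod : ∀ i j : ℕ, i < 60 → j < 60 →
      mulD (tgetD codesLo i) (tgetD codesHi j) = encD (elemAt loPair i * elemAt hiPair j) := by
    intro i j hi hj
    rw [← encD_mul, el pairOk_lo i hi, el pairOk_hi j hj]
  have h6 : ∀ g h : Fin 3, (orderOf (elemAt loPair (useIx g) * elemAt hiPair (useIx h))).Coprime 5 := by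
    intro g h
    refine Nat.Coprime.coprime_dvd_left (orderOf_dvd_of_pow_eq_one (n := 6) ?_) (by decide)
    rw [(show Commute (elemAt loPair (useIx g)) (elemAt hiPair (useIx h)) from
      commute_lo_hi _ _).mul_pow]
    have h1 : ∀ g : Fin 3, elemAt loPair (useIx g) ^ 6 = 1 ∧ elemAt hiPair (useIx g) ^ 6 = 1 := by
      decide +kernel
    rw [(h1 g).1, (h1 h).2, one_mul]
  have rep : ∀ (t : Fin 6) (g h : Fin 3), ![idD, mulD (tgetD codesLo ixS) (tgetD codesHi 0),
      mulD (tgetD codesLo ixG) (tgetD codesHi 0), mulD (tgetD codesLo ixS) (tgetD codesHi ixS),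
      mulD (tgetD codesLo ixS) (tgetD codesHi ixG), mulD (tgetD codesLo ixG) (tgetD codesHi ixG)] t =
        mulD (tgetD codesLo (useIx g)) (tgetD codesHi (useIx h)) →
      x t = (useTr g : (ZMod (5 ^ (N + 1)))) * va h + (useTr h : (ZMod (5 ^ (N + 1)))) * vb g := by
    intro t g h he
    have hlt : ∀ k : Fin 3, useIx k < 60 := by decide
    rw [← htr g h, ← show evalSwaps (classReps.getD t.val []) =
      elemAt loPair (useIx g) * elemAt hiPair (useIx h) from
        encD_injective (by rw [hcls t, he, hprod _ _ (hlt g) (hlt h)])]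
  have x0 : x 0 = 5 * va 0 + 5 * vb 0 := by
    simpa [useTr, neg_one_mul] using rep 0 0 0 (by decide +kernel)
  have x1 : x 1 = va 0 + 5 * vb 1 := by simpa [useTr, neg_one_mul] using rep 1 1 0 rfl
  have x2 : x 2 = -va 0 + 5 * vb 2 := by simpa [useTr, neg_one_mul] using rep 2 2 0 rfl
  have x3 : x 3 = va 1 + vb 1 := by simpa [useTr, neg_one_mul] using rep 3 1 1 rfl
  have x4 : x 4 = va 2 - vb 1 := by simpa [useTr, sub_eq_add_neg, neg_one_mul] using rep 4 1 2 rfl
  have x5 : x 5 = -va 2 - vb 2 := by simpa [useTr, sub_eq_add_neg, neg_one_mul] using rep 5 2 2 rfl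
  have conj : ∀ (g h : Fin 3) (c : List ℕ) (t : ℕ),
      mulD (mulD (tgetD codesLo (useIx g)) (tgetD codesHi (useIx h))) (codeSwaps c) =
        mulD (codeSwaps c) (encD (evalSwaps (classReps.getD t []))) →
      x t = (useTr g : (ZMod (5 ^ (N + 1)))) * va h + (useTr h : (ZMod (5 ^ (N + 1)))) * vb g := by
    intro g h c t he
    have hlt : ∀ k : Fin 3, useIx k < 60 := by decide
    rw [← htr g h]
    refine (traceLift_conj ρ (c := evalSwaps c) ?_ (h6 g h)).symm
    refine encD_injective ?_
    rw [← encD_mul, ← encD_mul, ← encD_mul, ← codeSwaps_eq, el pairOk_lo _ (hlt g), el pairOk_hi _ (hlt h)]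
    exact he
  have x2' : x 2 = 5 * va 2 - vb 0 := by
    simpa [useTr, sub_eq_add_neg, neg_one_mul] using conj 0 2 (pairConj.getD 0 []) 2 hc0
  have x4' : x 4 = -va 1 + vb 2 := by
    simpa [useTr, neg_one_mul] using conj 2 1 (pairConj.getD 1 []) 4 hc1
  -- the eight multiplicities
  have m0 := group0.multiplicity (N := N) group0_check ρ
  have m1 := group1.multiplicity (N := N) group1_check ρ
  have m2 := group2.multiplicity (N := N) group2_check ρ
  have m3 := group3.multiplicity (N := N) group3_check ρ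
  have m4 := group4.multiplicity (N := N) group4_check ρ
  have m5 := group5.multiplicity (N := N) group5_check ρ
  have m6 := group6.multiplicity (N := N) group6_check ρ
  have m7 := group7.multiplicity (N := N) group7_check ρ
  obtain ⟨r0, l0, q0⟩ := m0
  obtain ⟨r1, l1, q1⟩ := m1
  obtain ⟨r2, l2, q2⟩ := m2
  obtain ⟨r3, l3, q3⟩ := m3
  obtain ⟨r4, l4, q4⟩ := m4
  obtain ⟨r5, l5, q5⟩ := m5
  obtain ⟨r6, l6, q6⟩ := m6
  obtain ⟨r7, l7, q7⟩ := m7
  rw [show classReps.length = 13 by rfl] at q0 q1 q2 q3 q4 q5 q6 q7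
  simp only [Finset.sum_range_succ, Finset.sum_range_zero, group0, group1, group2, group3, group4,
    group5, group6, group7, List.getD_cons_succ, List.getD_cons_zero] at q0 q1 q2 q3 q4 q5 q6 q7
  have hone : x 0 = (n : (ZMod (5 ^ (N + 1)))) := by
    have e1 : evalSwaps (classReps.getD 0 []) = 1 := by decide +kernel
    show traceLift N (ρ (evalSwaps (classReps.getD 0 []))) = _
    rw [e1, map_one, traceLift_eq (m := 1) (X := 1) (by decide) (one_pow 1) redM_one, trace_one,
      Fintype.card_fin]
  set B := 20 * (576 * r0) + 50 * (576 * r1) + 160 * (576 * r2) + 75 * (384 * r3) + 135 * (384 * r4) +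
    590 * (144 * r5) + 990 * (144 * r6) + 100 * (72 * r7) + 144 * n with hB
  have hz : (B : (ZMod (5 ^ (N + 1)))) = 0 := by
    rw [hB]
    simp only [x] at x0 x1 x2 x3 x4 x5 x2' x4' hone
    push_cast at q0 q1 q2 q3 q4 q5 q6 q7 ⊢
    linear_combination (exp := 1) -20 * q0 - 50 * q1 - 160 * q2 - 75 * q3 - 135 * q4 - 590 * q5
      - 990 * q6 - 100 * q7 + 2264 * x0 - 6120 * x1 + 2140 * x2 + 8260 * x2' + 14400 * x3
      - 25380 * x4 + 5220 * x4' + 28160 * x5 - 144 * hone + 3060 * hva + 3060 * hvb
  rw [ZMod.natCast_eq_zero_iff] at hz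
  have hpos : 0 < B := by omega
  have hle := Nat.le_of_dvd hpos hz
  have hlt : N < 5 ^ N := Nat.lt_pow_self (by norm_num)
  have : 5 ^ N < 5 ^ (N + 1) := Nat.pow_lt_pow_right (by norm_num) (by omega)
  rw [Fintype.card_fin] at l0 l1 l2 l3 l4 l5 l6 l7
  omega

universe u

/-- The module property for the prime five. -/
theorem fixedVectorProp_five : FixedVectorProp.{u} 5 (5 + 5) := by
  intro V _ _ hnt hexp ρ _
  classical
  have : Module (ZMod 5) (Additive V) :=
    AddCommGroup.zmodModule fun v => congrArg Additive.ofMul (hexp v.toMul)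
  have : Finite (Additive V) := ‹Finite V›
  have : Nontrivial (Additive V) := hnt
  let b := Module.finBasis (ZMod 5) (Additive V)
  let f : A10 →* Module.End (ZMod 5) (Additive V) :=
    { toFun := fun g => (MonoidHom.toAdditive (ρ g).toMonoidHom).toZModLinearMap 5
      map_one' := LinearMap.ext fun v => by simp
      map_mul' := fun g h => LinearMap.ext fun v => by simp }
  let σ : A10 →* Matrix _ _ (ZMod 5) := (LinearMap.toMatrixAlgEquiv b).toMonoidHom.comp f
  have hno := not_noFixedVector (n := Module.finrank (ZMod 5) (Additive V))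
    Module.finrank_pos σ
  simp only [NoFixedVector] at hno
  push Not at hno
  obtain ⟨E, hE, y, hy, hy0⟩ := hno
  refine ⟨E, hE, (b.equivFun.symm y).toMul, fun h0 => hy0 ?_, fun g hg => ?_⟩
  · exact b.equivFun.symm.map_eq_zero_iff.mp (congrArg Additive.ofMul h0)
  · have h1 := hy g hg
    have h2 : b.equivFun (f g (b.equivFun.symm y)) = y := by
      refine Eq.trans ?_ h1
      funext i
      simp only [σ, MonoidHom.comp_apply]
      have := LinearMap.toMatrix_mulVec_repr b b (f g) (b.equivFun.symm y)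
      have h3 : (b.repr (b.equivFun.symm y) : _ → ZMod 5) = y := b.equivFun.apply_symm_apply y
      rw [h3] at this
      exact (congrFun this i).symm
    have h4 : f g (b.equivFun.symm y) = b.equivFun.symm y :=
      b.equivFun.injective (by rw [h2, LinearEquiv.apply_symm_apply])
    exact congrArg Additive.toMul h4

end CfsgLib.AltSolvCent.Five
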