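import Cfsg.Agent.Lib.AltSolvCent.FiveFacts
import Cfsg.Agent.Lib.AltSolvCent.FiveGroups
import Mathlib.LinearAlgebra.Matrix.Kronecker
import Mathlib.GroupTheory.SpecificGroups.Alternating
import Mathlib.GroupTheory.Perm.Support
import Mathlib.Tactic.LinearCombination

/-!
One copy of `A_5` with its block idempotent: the image of the idempotent is the tensor product of
the five-dimensional irreducible module with a module for the other copy, and the lift traces of
the latter satisfy the relation of the principal block.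
-/

set_option autoImplicit false

namespace CfsgLib.AltSolvCent.Five

open Matrix Lift
open scoped Kronecker

/-- `Fin 4` as a four-element interval of `Fin 10`. -/
def intervalEquiv (o : ℕ) (h : o + 4 ≤ 10) :
    Fin 4 ≃ {x : Fin 10 // o ≤ x.val ∧ x.val < o + 4} where
  toFun i := ⟨⟨o + i.val, by omega⟩, by simp, by simp⟩
  invFun x := ⟨x.1.val - o, by have := x.2; omega⟩
  left_inv i := by ext; simp
  right_inv x := by
    obtain ⟨⟨x, hx⟩, h1, h2⟩ := x
    ext
    simp only at h1 h2 ⊢
    omega

/-- The alternating group on four points inside `A_10`. -/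
def fourHom (o : ℕ) (h : o + 4 ≤ 10) : alternatingGroup (Fin 4) →* A10 where
  toFun g := ⟨g.1.extendDomain (intervalEquiv o h), by
    rw [Equiv.Perm.mem_alternatingGroup, Equiv.Perm.sign_extendDomain]; exact g.2⟩
  map_one' := Subtype.ext (Equiv.Perm.extendDomain_one _)
  map_mul' a b := Subtype.ext (Equiv.Perm.extendDomain_mul _ _ _).symm

/-- A double transposition. -/
def fourS : alternatingGroup (Fin 4) :=
  ⟨Equiv.swap 0 1 * Equiv.swap 2 3, by rw [Equiv.Perm.mem_alternatingGroup]; decide⟩

/-- A second double transposition. -/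
def fourU : alternatingGroup (Fin 4) :=
  ⟨Equiv.swap 0 2 * Equiv.swap 1 3, by rw [Equiv.Perm.mem_alternatingGroup]; decide⟩

/-- A three-cycle. -/
def fourG : alternatingGroup (Fin 4) :=
  ⟨Equiv.swap 0 1 * Equiv.swap 1 2, by rw [Equiv.Perm.mem_alternatingGroup]; decide⟩

/-- The indices used: identity, involution, element of order three. -/
def useIx : Fin 3 → ℕ := ![0, ixS, ixG]

/-- Integral matrices of the five-dimensional representation at the three indices. -/
def useMat : Fin 3 → Matrix (Fin 5) (Fin 5) ℤ :=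
  ![1, !![0, 1, 0, 0, 0; 1, 0, 0, 0, 0; 0, 0, 0, 1, 0; 0, 0, 1, 0, 0; 0, 0, 0, 0, 1],
    !![0, 0, 0, 0, 1; -1, -1, -1, -1, -1; 0, 1, 0, 0, 0; 1, 0, 0, 0, 0; 0, 0, 0, 1, 0]]

/-- The character of the five-dimensional representation at the three indices. -/
def useTr : Fin 3 → ℤ := ![5, 1, -1]

theorem useMat_spec :
    (∀ g, useMat g ^ 6 = 1) ∧ (∀ g, (useMat g).trace = useTr g) ∧
    (∀ i j : Fin 5, ((useMat 1 i j : ℤ) : ZMod 5) = (((cS.getD i []).getD j 0 : ℕ) : ZMod 5)) ∧
    (∀ i j : Fin 5, ((useMat 2 i j : ℤ) : ZMod 5) = (((cG.getD i []).getD j 0 : ℕ) : ZMod 5)) := by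
  decide +kernel

variable {n : ℕ}

lemma kronecker_pow {R : Type*} [CommRing R] {a b : Type*} [Fintype a] [DecidableEq a] [Fintype b]
    [DecidableEq b] (A : Matrix a a R) (B : Matrix b b R) (k : ℕ) :
    (A ⊗ₖ B) ^ k = (A ^ k) ⊗ₖ (B ^ k) := by
  induction k with
  | zero => simp
  | succ k ih => rw [pow_succ, pow_succ, pow_succ, ih, mul_kronecker_mul]

/-- The data of one side: coordinates on the image of the idempotent, and the three values. -/
theorem exists_side (ρ : A10 →* Matrix (Fin n) (Fin n) (ZMod 5)) (N : ℕ) (P P' : Pair) {T T' : ℕ}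
    (hP : pairOk P T = true) (hP' : pairOk P' T' = true)
    (hcomm : ∀ l m, Commute (P.eval l) (P'.eval m))
    (horth : (pairRep ρ P hP).act vE * (pairRep ρ P' hP').act vE = 0)
    (a4 : alternatingGroup (Fin 4) →* A10)
    (haS : a4 fourS = elemAt P' ixS) (haU : a4 fourU = elemAt P' ixU) (haG : a4 fourG = elemAt P' ixG)
    (ha4 : ∀ g, Commute (a4 g) P.x ∧ Commute (a4 g) P.y) :
    ∃ (r : ℕ) (M : Matrix (Fin n) (Fin 5 × Fin r) (ZMod 5))
      (M' : Matrix (Fin 5 × Fin r) (Fin n) (ZMod 5)) (v : Fin 3 → ZMod (5 ^ (N + 1))),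
      M' * M = 1 ∧ M * M' = (pairRep ρ P hP).act vE ∧
      (pairRep ρ P hP).act vE * M = M ∧ M' * (pairRep ρ P hP).act vE = M' ∧
      v 0 + 3 * v 1 = 4 * v 2 ∧
      ∀ g h : Fin 3, ∃ Y : Matrix (Fin 5 × Fin r) (Fin 5 × Fin r) (ZMod (5 ^ (N + 1))),
        Y ^ 6 = 1 ∧ ρ (elemAt P (useIx g) * elemAt P' (useIx h)) * M = M * redM Y ∧
        Y.trace = (useTr g : ZMod (5 ^ (N + 1))) * v h := by
  set S := pairRep ρ P hP with hSdef
  set S' := pairRep ρ P' hP' with hS'def
  have hS := blockFacts S
  have hS' := blockFacts S'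
  set e := S.act vE
  set F := S.act vF
  obtain ⟨r, AF, BF, -, hAB, hBA⟩ := Lift.exists_factor (p := 5) F hS.ff
  have hFA : F * AF = AF := by rw [← hAB, Matrix.mul_assoc, hBA, Matrix.mul_one]
  have hBF : BF * F = BF := by rw [← hAB, ← Matrix.mul_assoc, hBA, Matrix.one_mul]
  -- everything commuting with both generators of `P` commutes with the first algebra
  have hactc : ∀ x : A10, Commute x P.x → Commute x P.y → ∀ u, Commute (ρ x) (S.act u) := by
    intro x hx hy u
    refine Commute.sum_right _ _ _ fun i _ => Commute.smul_right ?_ _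
    show Commute (ρ x) (ρ (P.eval (wordAt i)))
    generalize wordAt i = w
    induction w with
    | nil => simp [Pair.eval]
    | cons b w ih =>
      rw [Pair.eval, map_mul]
      refine Commute.mul_right ?_ ih
      cases b
      · exact hx.map ρ
      · exact hy.map ρ
  -- the representation of the small group
  let ψ : alternatingGroup (Fin 4) →* Matrix (Fin r) (Fin r) (ZMod 5) :=
    { toFun := fun g => BF * ρ (a4 g) * AF
      map_one' := by simp [hBA]
      map_mul' := fun g h => by
        have hc := hactc (a4 h) (ha4 h).1 (ha4 h).2 vF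
        calc BF * ρ (a4 (g * h)) * AF = BF * (ρ (a4 g) * (ρ (a4 h) * (F * AF))) := by
              rw [hFA, map_mul, map_mul]; simp only [Matrix.mul_assoc]
          _ = BF * (ρ (a4 g) * (F * (ρ (a4 h) * AF))) := by
              rw [← Matrix.mul_assoc (ρ (a4 h)) F AF, hc.eq, Matrix.mul_assoc]
          _ = _ := by rw [← hAB]; simp only [Matrix.mul_assoc] }
  have hψ : ∀ g, ψ g = BF * ρ (a4 g) * AF := fun _ => rfl
  have hcard : Nat.card (alternatingGroup (Fin 4)) = 12 := by
    rw [nat_card_alternatingGroup, Nat.card_fin]; rfl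
  obtain ⟨σ, hσ⟩ := exists_lift_hom (N := N) (p := 5) (by rw [hcard]; decide) ψ
  let hh : Fin 3 → alternatingGroup (Fin 4) := ![1, fourS, fourG]
  have hhh : ∀ h, a4 (hh h) = elemAt P' (useIx h) := by
    intro h
    fin_cases h
    · show a4 1 = elemAt P' 0
      rw [map_one, (elem_spec hP').2.2]
    · exact haS
    · exact haG
  have hh6 : ∀ h, hh h ^ 6 = 1 := by
    intro h; fin_cases h <;> decide
  let A : Fin 5 → Matrix (Fin n) (Fin n) (ZMod 5) := fun i => S.act (vA.getD i 0)
  let B : Fin 5 → Matrix (Fin n) (Fin n) (ZMod 5) := fun i => S.act (vB.getD i 0)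
  let M : Matrix (Fin n) (Fin 5 × Fin r) (ZMod 5) := Matrix.of fun x p => (A p.1 * AF) x p.2
  let M' : Matrix (Fin 5 × Fin r) (Fin n) (ZMod 5) := Matrix.of fun p x => (BF * B p.1) p.2 x
  refine ⟨r, M, M', fun h => (σ (hh h)).trace, ?_, ?_, ?_, ?_, ?_, ?_⟩
  · ext ⟨i, k⟩ ⟨j, l⟩
    show ((BF * B i) * (A j * AF)) k l = _
    rw [Matrix.mul_assoc, ← Matrix.mul_assoc (B i), hS.ba i j]
    by_cases hij : i = j
    · subst hij
      rw [if_pos rfl, hFA, hBA]
      by_cases hkl : k = l
      · subst hkl; simp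
      · simp [hkl]
    · simp [hij]
  · rw [← show ∑ i : Fin 5, A i * B i = e from hS.ab]
    have e1 : ∀ i, A i * B i = (A i * AF) * (BF * B i) := by
      intro i
      rw [Matrix.mul_assoc, ← Matrix.mul_assoc AF, hAB, ← Matrix.mul_assoc]
      conv_lhs => rw [← show A i * F = A i from hS.af i]
      try rw [Matrix.mul_assoc]
    rw [Finset.sum_congr rfl fun i _ => e1 i]
    ext x y
    rw [Matrix.mul_apply, Fintype.sum_prod_type, Matrix.sum_apply]
    exact Finset.sum_congr rfl fun i _ => by rw [Matrix.mul_apply]; rfl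
  · -- the idempotent fixes the image
    have hea : ∀ i, e * (A i * AF) = A i * AF := by
      intro i
      have hc : Commute e (A i) := Commute.sum_right _ _ _ fun j _ =>
        Commute.smul_right (vE_commute ρ P hP j) _
      rw [← Matrix.mul_assoc, hc.eq, Matrix.mul_assoc]
      conv_lhs => rw [← hFA, ← Matrix.mul_assoc e F AF, show e * F = F from hS.ef, hFA]
    ext x ⟨i, k⟩
    have := congrFun (congrFun (hea i) x) k
    rw [Matrix.mul_apply] at this ⊢
    exact this
  · have hbe : ∀ i, (BF * B i) * e = BF * B i := by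
      intro i
      have hc : Commute e (B i) := Commute.sum_right _ _ _ fun j _ =>
        Commute.smul_right (vE_commute ρ P hP j) _
      rw [Matrix.mul_assoc, ← hc.eq, ← Matrix.mul_assoc]
      conv_lhs => rw [← hBF, Matrix.mul_assoc BF F e, show F * e = F from hS.fe, hBF]
    ext ⟨i, k⟩ x
    have := congrFun (congrFun (hbe i) k) x
    rw [Matrix.mul_apply] at this ⊢
    exact this
  · -- the principal block relation
    show (σ 1).trace + 3 * (σ fourS).trace = 4 * (σ fourG).trace
    set p₀ := σ fourS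
    set q₀ := σ fourU
    set g₀ := σ fourG
    set Z := 1 + p₀ + q₀ + p₀ * q₀
    have hcop : (4 : ℕ).Coprime (5 ^ (N + 1)) := Nat.Coprime.pow_right _ (by decide)
    obtain ⟨u, hu⟩ := (ZMod.isUnit_iff_coprime 4 (5 ^ (N + 1))).2 hcop
    have hss : p₀ * p₀ = 1 := by rw [← map_mul, show fourS * fourS = 1 by decide, map_one]
    have huu : q₀ * q₀ = 1 := by rw [← map_mul, show fourU * fourU = 1 by decide, map_one]
    have hsu : q₀ * p₀ = p₀ * q₀ := by
      rw [← map_mul, ← map_mul, show fourU * fourS = fourS * fourU by decide]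
    have hgs : g₀ * p₀ = (p₀ * q₀) * g₀ := by
      rw [← map_mul, ← map_mul, ← map_mul, show fourG * fourS = fourS * fourU * fourG by decide]
    have hgu : g₀ * q₀ = p₀ * g₀ := by
      rw [← map_mul, ← map_mul, show fourG * fourU = fourS * fourG by decide]
    have hgp : g₀ * (p₀ * q₀) = q₀ * g₀ := by
      rw [← map_mul, ← map_mul, ← map_mul, show fourG * (fourS * fourU) = fourU * fourG by decide]
    have hZs : Z * p₀ = Z := by
      simp only [Z, add_mul, one_mul, mul_assoc, hsu, hss]
      rw [← mul_assoc, hss, one_mul]; abel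
    have hZu : Z * q₀ = Z := by
      simp only [Z, add_mul, one_mul, mul_assoc, huu, mul_one]
      abel
    have hZZ : Z * Z = (4 : ZMod (5 ^ (N + 1))) • Z := by
      conv_lhs => arg 2; rw [show Z = 1 + p₀ + q₀ + p₀ * q₀ from rfl]
      rw [mul_add, mul_add, mul_add, mul_one, hZs, hZu, ← mul_assoc, hZs, hZu,
        show (4 : ZMod (5 ^ (N + 1))) = 1 + 1 + 1 + 1 by norm_num, add_smul, add_smul, add_smul, one_smul]
    have hgZ : g₀ * Z = Z * g₀ := by
      have hperm : g₀ * p₀ + g₀ * q₀ + g₀ * (p₀ * q₀) = p₀ * g₀ + q₀ * g₀ + (p₀ * q₀) * g₀ := by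
        rw [hgs, hgu, hgp]; abel
      calc g₀ * Z = g₀ + (g₀ * p₀ + g₀ * q₀ + g₀ * (p₀ * q₀)) := by
            simp only [Z, mul_add, mul_one, add_assoc]
        _ = g₀ + (p₀ * g₀ + q₀ * g₀ + p₀ * q₀ * g₀) := by rw [hperm]
        _ = _ := by simp only [Z, add_mul, one_mul, add_assoc]
    set Pr := (↑u⁻¹ : ZMod (5 ^ (N + 1))) • Z
    have hPr : Pr * Pr = Pr := by
      rw [smul_mul_smul_comm, hZZ, smul_smul, mul_assoc,
        show (↑u⁻¹ : ZMod (5 ^ (N + 1))) * 4 = 1 by
          rw [show (4 : ZMod (5 ^ (N + 1))) = u by rw [hu]; norm_num, Units.inv_mul], mul_one]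
    have hgP : g₀ * Pr = Pr * g₀ := by rw [mul_smul_comm, smul_mul_assoc, hgZ]
    set X := g₀ * Pr + (1 - Pr)
    have hX3 : X ^ 3 = 1 := by
      have h1 : Pr * (1 - Pr) = 0 := by rw [mul_sub, mul_one, hPr, sub_self]
      have h2 : (1 - Pr) * Pr = 0 := by rw [sub_mul, one_mul, hPr, sub_self]
      have h3 : (1 - Pr) * (1 - Pr) = 1 - Pr := by rw [sub_mul, one_mul, h1, sub_zero]
      have hg3 : g₀ * g₀ * g₀ = 1 := by
        rw [← map_mul, ← map_mul, show fourG * fourG * fourG = 1 by decide, map_one]
      have h4 : X * X = g₀ * g₀ * Pr + (1 - Pr) := by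
        simp only [X, add_mul, mul_add]
        rw [show g₀ * Pr * (g₀ * Pr) = g₀ * g₀ * Pr by
            rw [mul_assoc, ← mul_assoc Pr, ← hgP, mul_assoc g₀ Pr Pr, hPr, mul_assoc],
          show g₀ * Pr * (1 - Pr) = 0 by rw [mul_assoc, h1, mul_zero],
          show (1 - Pr) * (g₀ * Pr) = 0 by rw [hgP, ← mul_assoc, h2, zero_mul], h3]
        abel
      rw [pow_three', h4]
      simp only [X, add_mul, mul_add]
      rw [show g₀ * g₀ * Pr * (g₀ * Pr) = Pr by
          rw [mul_assoc, ← mul_assoc Pr, ← hgP, mul_assoc g₀ Pr Pr, hPr, ← mul_assoc, hg3, one_mul],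
        show g₀ * g₀ * Pr * (1 - Pr) = 0 by rw [mul_assoc, h1, mul_zero],
        show (1 - Pr) * (g₀ * Pr) = 0 by rw [hgP, ← mul_assoc, h2, zero_mul], h3]
      abel
    have hred : redM X = 1 := by
      -- the three-element is trivial on the fixed points of the four-group
      have hz : BF * ρ (a4 fourG) * AF * redM Z = redM Z := by
        have hZred : redM Z = BF * (S'.act vN) * AF := by
          rw [hS'.nsum]
          show (red 5 N).mapMatrix Z = _
          simp only [Z, map_add, map_mul, map_one]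
          show 1 + redM p₀ + redM q₀ + redM p₀ * redM q₀ = _
          rw [hσ, hσ, ← map_mul ψ, hψ, hψ, hψ, map_mul a4, haS, haU,
            (elem_spec hP').2.1 _ _ (by decide) (by decide)]
          simp only [Matrix.mul_add, Matrix.add_mul, Matrix.mul_one, hBA]
          rfl
        have hc := hactc (a4 fourG) (ha4 _).1 (ha4 _).2 vF
        have hN : Commute F (S'.act vN) := by
          refine Commute.sum_right _ _ _ fun i _ => Commute.smul_right ?_ _
          refine Commute.sum_left _ _ _ fun j _ => Commute.smul_left ?_ _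
          exact (hcomm _ _).map ρ
        rw [hZred]
        calc BF * ρ (a4 fourG) * AF * (BF * S'.act vN * AF)
            = BF * (ρ (a4 fourG) * F) * S'.act vN * AF := by rw [← hAB]; simp only [Matrix.mul_assoc]
          _ = BF * F * (ρ (a4 fourG) * S'.act vN) * AF := by rw [hc.eq]; simp only [Matrix.mul_assoc]; rfl
          _ = BF * (S'.act vZ + S'.act vN) * AF := by
              rw [hBF, haG, ← hS'.gn]; rfl
          _ = BF * S'.act vN * AF := by
              have h0 : BF * S'.act vZ = 0 := by
                rw [← hS'.ez, ← hBF, ← show F * e = F from hS.fe]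
                simp only [Matrix.mul_assoc]
                rw [← Matrix.mul_assoc e (S'.act vE), horth, Matrix.zero_mul,
                  Matrix.mul_zero, Matrix.mul_zero]
              rw [Matrix.mul_add, h0, zero_add]
      show (red 5 N).mapMatrix X = 1
      simp only [X, Pr, map_add, map_sub, map_mul, map_one]
      have hsm : (red 5 N).mapMatrix ((↑u⁻¹ : ZMod (5 ^ (N + 1))) • Z) =
          red 5 N ↑u⁻¹ • redM Z := by
        ext i j; simp [redM]
      rw [hsm, show (red 5 N).mapMatrix g₀ = ψ fourG from hσ _, hψ, mul_smul_comm, hz]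
      abel
    have htr : (g₀ * Z).trace = Z.trace := by
      have h1 : X.trace = (1 : Matrix (Fin r) (Fin r) (ZMod (5 ^ (N + 1)))).trace :=
        trace_eq_of_lift (a := 3) (b := 1) (by decide) (by decide) hX3 (one_pow 1)
          (by rw [hred, redM_one])
      simp only [X, Pr, Matrix.trace_add, Matrix.trace_sub, mul_smul_comm, Matrix.trace_smul,
        smul_eq_mul] at h1
      have h2 : (↑u⁻¹ : ZMod (5 ^ (N + 1))) * ((g₀ * Z).trace - Z.trace) = 0 := by linear_combination h1
      have h3 := congrArg (fun t => (u : ZMod (5 ^ (N + 1))) * t) h2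
      simp only [mul_zero, ← mul_assoc, Units.mul_inv, one_mul] at h3
      exact sub_eq_zero.1 h3
    have hcl : ∀ a b : alternatingGroup (Fin 4), (∃ c, a * c = c * b) → (σ a).trace = (σ b).trace := by
      rintro a b ⟨c, hc⟩
      have hU : IsUnit (σ c) := (Group.isUnit c).map σ
      exact trace_eq_of_intertwine hU (by rw [← map_mul, ← map_mul, hc])
    have h1 : q₀.trace = p₀.trace := hcl _ _ (by decide)
    have h2 : (p₀ * q₀).trace = p₀.trace := by rw [← map_mul]; exact hcl _ _ (by decide)
    have h3 : (g₀ * p₀).trace = g₀.trace := by rw [← map_mul]; exact hcl _ _ (by decide)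
    have h4 : (g₀ * q₀).trace = g₀.trace := by rw [← map_mul]; exact hcl _ _ (by decide)
    have h5 : (g₀ * (p₀ * q₀)).trace = g₀.trace := by
      rw [← map_mul, ← map_mul]; exact hcl _ _ (by decide)
    simp only [Z, mul_add, mul_one, Matrix.trace_add, h1, h2, h3, h4, h5] at htr
    rw [map_one]
    linear_combination -htr
  · intro g h
    let C : Matrix (Fin 5) (Fin 5) (ZMod (5 ^ (N + 1))) := (useMat g).map (Int.castRingHom _)
    refine ⟨C ⊗ₖ σ (hh h), ?_, ?_, ?_⟩
    · rw [kronecker_pow, ← map_pow, hh6, map_one]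
      have : C ^ 6 = 1 := by
        show ((Int.castRingHom (ZMod (5 ^ (N + 1)))).mapMatrix (useMat g)) ^ 6 = 1
        rw [← map_pow, useMat_spec.1, map_one]
      rw [this, Matrix.one_kronecker_one]
    · have hga : ∀ i, S.R (useIx g) * A i =
          ∑ j, ((useMat g j i : ℤ) : ZMod 5) • A j := by
        intro i
        fin_cases g
        · show S.R 0 * A i = _
          rw [S.one, Matrix.one_mul, Finset.sum_eq_single i]
          · simp [useMat]
          · intro j _ hj; simp [useMat, hj]
          · simp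
        · exact (hS.ga ixS cS (by simp) i).trans (Finset.sum_congr rfl fun j _ => by
            rw [← useMat_spec.2.2.1 j i]; rfl)
        · exact (hS.ga ixG cG (by simp) i).trans (Finset.sum_congr rfl fun j _ => by
            rw [← useMat_spec.2.2.2 j i]; rfl)
      have hh' : ∀ i, ρ (elemAt P' (useIx h)) * (A i * AF) = A i * AF * ψ (hh h) := by
        intro i
        rw [hψ, hhh]
        have hc1 := hactc (elemAt P' (useIx h))
          (by rw [← hhh]; exact (ha4 _).1) (by rw [← hhh]; exact (ha4 _).2)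
        calc ρ (elemAt P' (useIx h)) * (A i * AF)
            = A i * (ρ (elemAt P' (useIx h)) * (F * AF)) := by
              rw [← Matrix.mul_assoc, (hc1 _).eq, Matrix.mul_assoc, hFA]
          _ = A i * (F * (ρ (elemAt P' (useIx h)) * AF)) := by
              rw [← Matrix.mul_assoc (ρ (elemAt P' (useIx h))) F AF, (hc1 _).eq, Matrix.mul_assoc]
          _ = _ := by rw [← hAB]; simp only [Matrix.mul_assoc]
      ext x ⟨i, k⟩
      have e1 : ρ (elemAt P (useIx g) * elemAt P' (useIx h)) * (A i * AF) =
          ∑ j, ((useMat g j i : ℤ) : ZMod 5) • (A j * AF * ψ (hh h)) := by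
        rw [map_mul, Matrix.mul_assoc, hh', ← Matrix.mul_assoc, ← Matrix.mul_assoc]
        show S.R (useIx g) * A i * AF * ψ (hh h) = _
        rw [hga, Matrix.sum_mul, Matrix.sum_mul]
        exact Finset.sum_congr rfl fun j _ => by simp only [Matrix.smul_mul, Matrix.mul_assoc]
      have e2 := congrFun (congrFun e1 x) k
      rw [Matrix.mul_apply] at e2
      rw [Matrix.mul_apply]
      refine e2.trans ?_
      rw [Matrix.sum_apply, Matrix.mul_apply, Fintype.sum_prod_type]
      refine Finset.sum_congr rfl fun j _ => ?_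
      rw [Matrix.smul_apply, Matrix.mul_apply, Finset.smul_sum]
      refine Finset.sum_congr rfl fun l _ => ?_
      show ((useMat g j i : ℤ) : ZMod 5) * ((A j * AF) x l * ψ (hh h) l k) =
        (A j * AF) x l * red 5 N (((useMat g j i : ℤ) : ZMod (5 ^ (N + 1))) * σ (hh h) l k)
      rw [map_mul, map_intCast, ← show red 5 N (σ (hh h) l k) = ψ (hh h) l k from
        congrFun (congrFun (hσ (hh h)) l) k]
      ring
    · show (C ⊗ₖ σ (hh h)).trace = _
      rw [Matrix.trace_kronecker]
      congr 1
      rw [← useMat_spec.2.1 g]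
      simp [C, Matrix.trace]

end CfsgLib.AltSolvCent.Five
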