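import Mathlib.GroupTheory.SpecificGroups.Alternating
import Mathlib.GroupTheory.Solvable
import Mathlib.Data.List.Perm.Basic
import Mathlib.Data.List.GetD
import Mathlib.GroupTheory.Abelianization.Defs

/-!
Orbit-sum certificates for groups of exponent two acted on by `A_9`.

Permutations of `Fin 9` are coded by numbers with four bits per point. A certificate says that a
vector fixed by given elements is the product, along suitable coset representatives, of vectors
fixed by subgroups without non-trivial fixed points, hence trivial.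
-/

set_option autoImplicit false

namespace CfsgLib.AltSolvCent.Two

open scoped commutatorElement

/-- The alternating group of degree nine. -/
abbrev A9 : Type := alternatingGroup (Fin 9)

/-- The image of `i` under the coded permutation. -/
def img (a i : ℕ) : ℕ := (a >>> (4 * i)) % 16

/-- The code of a sequence of nine values. -/
def pack (a₀ a₁ a₂ a₃ a₄ a₅ a₆ a₇ a₈ : ℕ) : ℕ :=
  a₀ + 16 * (a₁ + 16 * (a₂ + 16 * (a₃ + 16 * (a₄ + 16 * (a₅ + 16 * (a₆ + 16 * (a₇ + 16 * a₈)))))))

/-- Composition of coded permutations. -/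
def mulC (a b : ℕ) : ℕ :=
  pack (img a (img b 0)) (img a (img b 1)) (img a (img b 2)) (img a (img b 3)) (img a (img b 4))
    (img a (img b 5)) (img a (img b 6)) (img a (img b 7)) (img a (img b 8))

/-- The code of an element of `A_9`. -/
def enc (g : A9) : ℕ :=
  pack (g.1 0).val (g.1 1).val (g.1 2).val (g.1 3).val (g.1 4).val (g.1 5).val (g.1 6).val
    (g.1 7).val (g.1 8).val

lemma img_zero {a y : ℕ} (h : a < 16) : img (a + 16 * y) 0 = a := by
  simp only [img, Nat.mul_zero, Nat.shiftRight_zero]; omega

lemma img_succ {a y i : ℕ} (h : a < 16) : img (a + 16 * y) (i + 1) = img y i := by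
  simp only [img, Nat.shiftRight_eq_div_pow]
  rw [show 4 * (i + 1) = 4 + 4 * i by ring, pow_add, ← Nat.div_div_eq_div_mul]
  congr 2
  norm_num
  omega

lemma img_last {a : ℕ} (h : a < 16) : img a 0 = a := by
  simp only [img, Nat.mul_zero, Nat.shiftRight_zero]; omega

lemma img_enc (g : A9) (j : Fin 9) : img (enc g) j.val = (g.1 j).val := by
  have h : ∀ k : Fin 9, (g.1 k).val < 16 := fun k => by have := (g.1 k).isLt; omega
  fin_cases j <;>
    (simp only [enc, pack, img_zero (h _), img_succ (h _), img_last (h _)]; rfl)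

lemma enc_mul (g h : A9) : mulC (enc g) (enc h) = enc (g * h) := by
  have key : ∀ j : Fin 9, img (enc g) (img (enc h) j.val) = ((g * h : A9).1 j).val := fun j => by
    rw [img_enc h j, img_enc g (h.1 j)]
    rfl
  have k0 := key 0; have k1 := key 1; have k2 := key 2; have k3 := key 3; have k4 := key 4
  have k5 := key 5; have k6 := key 6; have k7 := key 7; have k8 := key 8
  simp only [mulC, enc]
  exact congr (congr (congr (congr (congr (congr (congr (congr (congrArg pack k0) k1) k2) k3) k4)
    k5) k6) k7) k8

lemma enc_injective : Function.Injective enc := fun g h e => by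
  refine Subtype.ext (Equiv.ext fun j => Fin.ext ?_)
  rw [← img_enc g j, ← img_enc h j, e]

/-- The code of the identity. -/
def idC : ℕ := pack 0 1 2 3 4 5 6 7 8

lemma enc_one : enc 1 = idC := rfl

/-- The three-cycle `(0 1 2)`. -/
def genA : A9 := ⟨Equiv.swap 0 1 * Equiv.swap 1 2, by rw [Equiv.Perm.mem_alternatingGroup]; decide⟩

/-- The nine-cycle. -/
def genB : A9 :=
  ⟨Equiv.swap 0 1 * Equiv.swap 1 2 * Equiv.swap 2 3 * Equiv.swap 3 4 * Equiv.swap 4 5 *
    Equiv.swap 5 6 * Equiv.swap 6 7 * Equiv.swap 7 8, by
    rw [Equiv.Perm.mem_alternatingGroup]; simp⟩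

lemma enc_genA : enc genA = pack 1 2 0 3 4 5 6 7 8 := by decide

lemma enc_genB : enc genB = pack 1 2 3 4 5 6 7 8 0 := by decide

/-- A word is a number: the binary digits below the leading one, the lowest first. -/
def evalW : List Bool → A9
  | [] => 1
  | b :: l => (if b then genB else genA) * evalW l

/-- The code of a word. -/
def wordC : List Bool → ℕ
  | [] => idC
  | b :: l => mulC (if b then pack 1 2 3 4 5 6 7 8 0 else pack 1 2 0 3 4 5 6 7 8) (wordC l)

lemma wordC_eq : ∀ l, wordC l = enc (evalW l)
  | [] => enc_one.symm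
  | b :: l => by
    rw [wordC, evalW, ← enc_mul, wordC_eq l]
    cases b <;> simp [enc_genA, enc_genB]

/-- Decoding of a word from a number: the binary digits below the leading one. -/
def bitsWordAux : ℕ → ℕ → List Bool
  | 0, _ => []
  | k + 1, n => if Nat.ble n 1 then [] else Nat.beq (n % 2) 1 :: bitsWordAux k (n / 2)

/-- The word coded by a number. -/
def bw (n : ℕ) : List Bool := bitsWordAux 48 n

/-- An entry of a table. -/
def tget (T i : ℕ) : ℕ := (T >>> (36 * i)) % 68719476736

/-- Every entry of the table is the product of a generator and an earlier entry. -/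
def chkT (gens : List (List Bool)) (T : ℕ) : ℕ → List (ℕ × ℕ) → Bool
  | _, [] => true
  | i, (g, q) :: l =>
    decide (q < i) && decide (g < gens.length) &&
      Nat.beq (tget T i) (mulC (wordC (gens.getD g [])) (tget T q)) && chkT gens T (i + 1) l

lemma table_spec {P : A9 → Prop} (gens : List (List Bool))
    (hgens : ∀ w ∈ gens, ∀ h, P h → P (evalW w * h)) (T : ℕ) :
    ∀ (l : List (ℕ × ℕ)) (i : ℕ), chkT gens T i l = true →
      (∀ j < i, ∃ g, P g ∧ enc g = tget T j) → ∀ j < i + l.length, ∃ g, P g ∧ enc g = tget T j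
  | [], i, _, hi => by simpa using hi
  | (g, q) :: l, i, h, hi => by
    simp only [chkT, Bool.and_eq_true, decide_eq_true_eq] at h
    obtain ⟨⟨⟨hq, hg⟩, he⟩, hl⟩ := h
    intro j hj
    refine table_spec gens hgens T l (i + 1) hl ?_ j (by simp at hj; omega)
    intro k hk
    rcases Nat.lt_succ_iff_lt_or_eq.1 hk with hk | rfl
    · exact hi k hk
    · obtain ⟨x, hx, hxe⟩ := hi q hq
      refine ⟨evalW (gens.getD g []) * x, hgens _ ?_ x hx, ?_⟩
      · rw [List.getD_eq_getElem _ _ hg]; exact List.getElem_mem hg
      · rw [Nat.eq_of_beq_eq_true he, wordC_eq, ← hxe, enc_mul]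

/-- One orbit sum: the subgroup kind, a conjugating word and its inverse, the cosets, and for every
generator the image cosets with the element of the stabiliser. -/
structure Term where
  kind : ℕ
  conj : List Bool
  conjInv : List Bool
  orb : List ℕ
  imgs : List (List (ℕ × ℕ))

/-- A certificate. -/
structure Cert where
  gens : List (List Bool)
  fixGens : List (List Bool)
  repTable : ℕ
  repSteps : List (ℕ × ℕ)
  fixTable : ℕ
  fixSteps : List (ℕ × ℕ)
  terms : List Term

/-- The images of the orbit under the element coded by `s`. -/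
def chkImg (T M L K s : ℕ) : List ℕ → List (ℕ × ℕ) → Bool
  | [], [] => true
  | i :: o, (j, k) :: m =>
    decide (i < M) && decide (j < M) && decide (k < K) &&
      Nat.beq (mulC (tget T j) (tget L k)) (mulC s (tget T i)) && chkImg T M L K s o m
  | _, _ => false

/-- All generators of one term. -/
def chkImgs (T M L K c c' : ℕ) (o : List ℕ) : List (List Bool) → List (List (ℕ × ℕ)) → Bool
  | [], [] => true
  | e :: es, m :: ms =>
    chkImg T M L K (mulC c (mulC (wordC e) c')) o m && (m.map Prod.fst).isPerm o &&
      chkImgs T M L K c c' o es ms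
  | _, _ => false

/-- One term. -/
def chkTerm (kinds : List (List (List Bool))) (T M L K : ℕ) (t : Term) : Bool :=
  decide (t.kind < kinds.length) && Nat.beq (mulC (wordC t.conj) (wordC t.conjInv)) idC &&
    chkImgs T M L K (wordC t.conj) (wordC t.conjInv) t.orb (kinds.getD t.kind []) t.imgs

/-- Parity vector of a list. -/
def bitsOf : List ℕ → ℕ
  | [] => 0
  | i :: l => (1 <<< i) ^^^ bitsOf l

/-- The whole check. -/
def Cert.check (C : Cert) (kinds : List (List (List Bool))) : Bool :=
  Nat.beq (tget C.repTable 0) idC && Nat.beq (tget C.fixTable 0) idC &&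
    chkT C.gens C.repTable 1 C.repSteps && chkT C.fixGens C.fixTable 1 C.fixSteps &&
    C.terms.all (chkTerm kinds C.repTable (C.repSteps.length + 1) C.fixTable
      (C.fixSteps.length + 1)) &&
    Nat.beq (bitsOf (C.terms.map Term.orb).flatten) 1

variable {V : Type*} [CommGroup V] (ρ : A9 →* MulAut V)

lemma rho_mul_apply (a b : A9) (v : V) : ρ a (ρ b v) = ρ (a * b) v := by rw [map_mul]; rfl

/-- The only vector fixed by all the elements given by the words is trivial. -/
def Kills (k : List (List Bool)) : Prop := ∀ v : V, (∀ w ∈ k, ρ (evalW w) v = v) → v = 1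

/-- Product of the values at the set bits below `M`. -/
def bitsProd (F : ℕ → V) (M n : ℕ) : V :=
  ∏ i ∈ Finset.range M, if n.testBit i then F i else 1

lemma bitsProd_bitsOf (h2 : ∀ v : V, v * v = 1) (F : ℕ → V) (M : ℕ) :
    ∀ l : List ℕ, (∀ i ∈ l, i < M) → bitsProd F M (bitsOf l) = (l.map F).prod
  | [], _ => by simp [bitsProd, bitsOf]
  | i :: l, h => by
    have hi : i < M := h i (List.mem_cons_self ..)
    rw [List.map_cons, List.prod_cons, ← bitsProd_bitsOf h2 F M l fun j hj => h j (List.mem_cons_of_mem _ hj)]
    have e : F i = ∏ j ∈ Finset.range M, if i = j then F j else 1 := by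
      rw [Finset.prod_ite_eq]; simp [hi]
    rw [e, bitsProd, bitsProd, ← Finset.prod_mul_distrib]
    refine Finset.prod_congr rfl fun j _ => ?_
    rw [bitsOf, Nat.testBit_xor, Nat.one_shiftLeft, Nat.testBit_two_pow]
    by_cases hij : i = j
    · subst hij
      cases (bitsOf l).testBit i <;> simp [h2]
    · simp [hij]

lemma chkImg_spec {T M L K s : ℕ} {F : ℕ → V} {x : A9}
    (hstep : ∀ i j k, i < M → j < M → k < K → mulC (tget T j) (tget L k) = mulC s (tget T i) →
      ρ x (F i) = F j) :
    ∀ (o : List ℕ) (m : List (ℕ × ℕ)), chkImg T M L K s o m = true →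
      o.map (fun i => ρ x (F i)) = (m.map Prod.fst).map F
  | [], [], _ => rfl
  | i :: o, (j, k) :: m, h => by
    simp only [chkImg, Bool.and_eq_true, decide_eq_true_eq] at h
    obtain ⟨⟨⟨⟨hi, hj⟩, hk⟩, he⟩, hl⟩ := h
    rw [List.map_cons, List.map_cons, List.map_cons, chkImg_spec hstep o m hl,
      hstep i j k hi hj hk (Nat.eq_of_beq_eq_true he)]
  | [], _ :: _, h => by simp [chkImg] at h
  | _ :: _, [], h => by simp [chkImg] at h

lemma chkImgs_spec {T M L K : ℕ} {c c' : A9} {F : ℕ → V} {o : List ℕ}
    (hstep : ∀ (x : A9) (i j k : ℕ), i < M → j < M → k < K →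
      mulC (tget T j) (tget L k) = mulC (enc x) (tget T i) → ρ x (F i) = F j) :
    ∀ (es : List (List Bool)) (ms : List (List (ℕ × ℕ))),
      chkImgs T M L K (enc c) (enc c') o es ms = true →
      ∀ e ∈ es, (∀ i ∈ o, i < M) ∧ ρ (c * evalW e * c') (o.map F).prod = (o.map F).prod
  | [], [], _ => by simp
  | e :: es, m :: ms, h => by
    simp only [chkImgs, Bool.and_eq_true] at h
    obtain ⟨⟨h1, h2⟩, h3⟩ := h
    rw [wordC_eq, enc_mul, enc_mul, ← mul_assoc] at h1
    intro e' he'
    rcases List.mem_cons.1 he' with rfl | he'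
    · refine ⟨?_, ?_⟩
      · clear h2 h3
        induction o generalizing m with
        | nil => simp
        | cons i o ih =>
          cases m with
          | nil => simp [chkImg] at h1
          | cons jk m =>
            obtain ⟨j, k⟩ := jk
            simp only [chkImg, Bool.and_eq_true, decide_eq_true_eq] at h1
            intro a ha
            rcases List.mem_cons.1 ha with rfl | ha
            · exact h1.1.1.1.1
            · exact ih m h1.2 a ha
      · rw [map_list_prod, List.map_map]
        have h4 := chkImg_spec ρ (fun i j k => hstep _ i j k) o m h1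
        rw [show (⇑(ρ (c * evalW e' * c')) ∘ F) = fun i => ρ (c * evalW e' * c') (F i) from rfl, h4]
        exact ((List.isPerm_iff.1 h2).map F).prod_eq
    · exact chkImgs_spec hstep es ms h3 e' he'
  | [], _ :: _, h => by simp [chkImgs] at h
  | _ :: _, [], h => by simp [chkImgs] at h

/-- A checked certificate shows that its vector is trivial. -/
theorem Cert.sound (C : Cert) (kinds : List (List (List Bool))) (hC : C.check kinds = true)
    (h2 : ∀ v : V, v * v = 1) (hk : ∀ k ∈ kinds, k ≠ [] ∧ Kills ρ k) : Kills ρ C.fixGens := by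
  intro v hv
  classical
  simp only [Cert.check, Bool.and_eq_true, List.all_eq_true] at hC
  obtain ⟨⟨⟨⟨⟨hT0, hL0⟩, hT⟩, hL⟩, hterms⟩, hbits⟩ := hC
  set M := C.repSteps.length + 1 with hMdef
  set K := C.fixSteps.length + 1 with hKdef
  have hTs : ∀ j < M, ∃ g : A9, True ∧ enc g = tget C.repTable j := fun j hj =>
    table_spec (P := fun _ => True) C.gens (fun _ _ _ _ => trivial) C.repTable C.repSteps 1 hT
      (fun k hk => ⟨1, trivial, by
        rw [Nat.lt_one_iff.1 hk, enc_one]; exact (Nat.eq_of_beq_eq_true hT0).symm⟩) j (by omega)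
  have hLs : ∀ j < K, ∃ g : A9, ρ g v = v ∧ enc g = tget C.fixTable j := fun j hj =>
    table_spec (P := fun g => ρ g v = v) C.fixGens
      (fun w hw h hh => by rw [map_mul, MulAut.mul_apply, hh, hv w hw]) C.fixTable C.fixSteps 1 hL
      (fun k hk => ⟨1, by simp, by
        rw [Nat.lt_one_iff.1 hk, enc_one]; exact (Nat.eq_of_beq_eq_true hL0).symm⟩) j (by omega)
  let F : ℕ → V := fun j => if hj : j < M then ρ (hTs j hj).choose v else 1
  have hstep : ∀ (x : A9) (i j k : ℕ), i < M → j < M → k < K →
      mulC (tget C.repTable j) (tget C.fixTable k) = mulC (enc x) (tget C.repTable i) →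
      ρ x (F i) = F j := by
    intro x i j k hi hj hk e
    obtain ⟨u, hu, hue⟩ := hLs k hk
    simp only [F, dif_pos hi, dif_pos hj]
    rw [← (hTs i hi).choose_spec.2, ← (hTs j hj).choose_spec.2, ← hue, enc_mul, enc_mul] at e
    have e' := enc_injective e
    rw [← MulAut.mul_apply, ← map_mul, ← e', map_mul, MulAut.mul_apply, hu]
  have hterm : ∀ t ∈ C.terms, (∀ i ∈ t.orb, i < M) ∧ (t.orb.map F).prod = 1 := by
    intro t ht
    have h := hterms t ht
    simp only [chkTerm, Bool.and_eq_true, decide_eq_true_eq] at h
    obtain ⟨⟨hkind, hcc⟩, himg⟩ := h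
    rw [wordC_eq, wordC_eq] at himg
    have hinv : evalW t.conjInv = (evalW t.conj)⁻¹ := by
      have h1 := Nat.eq_of_beq_eq_true hcc
      rw [wordC_eq, wordC_eq, enc_mul, ← enc_one] at h1
      exact eq_inv_of_mul_eq_one_right (enc_injective h1)
    rw [List.getD_eq_getElem _ _ hkind] at himg
    obtain ⟨hne, hkill⟩ := hk _ (List.getElem_mem hkind)
    have hspec := chkImgs_spec ρ hstep _ _ himg
    obtain ⟨e₀, he₀⟩ := List.exists_mem_of_ne_nil _ hne
    refine ⟨(hspec e₀ he₀).1, ?_⟩
    set s := (t.orb.map F).prod
    have h3 : ρ (evalW t.conjInv) s = 1 := by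
      refine hkill _ fun e he => ?_
      have h4 := (hspec e he).2
      rw [hinv] at h4 ⊢
      rw [map_mul, map_mul, MulAut.mul_apply, MulAut.mul_apply] at h4
      have h5 := congrArg (ρ (evalW t.conj)⁻¹) h4
      rwa [rho_mul_apply ρ (evalW t.conj)⁻¹ (evalW t.conj), inv_mul_cancel, map_one,
        MulAut.one_apply] at h5
    exact (MulEquiv.map_eq_one_iff _).1 h3
  have hall : ∀ i ∈ (C.terms.map Term.orb).flatten, i < M := by
    intro i hi
    obtain ⟨o, ho, hio⟩ := List.mem_flatten.1 hi
    obtain ⟨t, ht, rfl⟩ := List.mem_map.1 ho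
    exact (hterm t ht).1 i hio
  have hprod : (((C.terms.map Term.orb).flatten).map F).prod = 1 := by
    rw [List.map_flatten, List.prod_flatten, List.map_map, List.map_map]
    refine List.prod_eq_one fun a ha => ?_
    obtain ⟨t, ht, rfl⟩ := List.mem_map.1 ha
    exact (hterm t ht).2
  rw [← bitsProd_bitsOf h2 F M _ hall, Nat.eq_of_beq_eq_true hbits, bitsProd,
    Finset.prod_eq_single 0] at hprod
  · simp only [F] at hprod
    rw [if_pos (by decide), dif_pos (by omega)] at hprod
    have h0 := (hTs 0 (by omega)).choose_spec.2.trans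
      ((Nat.eq_of_beq_eq_true hT0).trans enc_one.symm)
    rwa [enc_injective h0, map_one, MulAut.one_apply] at hprod
  · intro b _ hb
    rw [if_neg]
    simp [Nat.testBit_one_eq_true_iff_self_eq_zero, hb]
  · intro h; exact absurd (Finset.mem_range.2 (by omega)) h

/-- Each generator is a commutator of words in the generators. -/
def chkPerfect (k : List (List Bool)) (wit : List (List ℕ × List ℕ)) : Bool :=
  let ev : List ℕ → List Bool := fun l => (l.map fun i => k.getD i []).flatten
  decide (k.length = wit.length) &&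
    (k.zip wit).all (fun p => Nat.beq (mulC (wordC p.1) (mulC (wordC (ev p.2.2)) (wordC (ev p.2.1))))
      (mulC (wordC (ev p.2.1)) (wordC (ev p.2.2)))) &&
    match k with
    | [] => false
    | w :: _ => !(Nat.beq (wordC w) idC)

lemma evalW_append : ∀ l l' : List Bool, evalW (l ++ l') = evalW l * evalW l'
  | [], l' => by simp [evalW]
  | b :: l, l' => by simp [evalW, evalW_append l l', mul_assoc]

/-- Generators that are commutators generate a non-solvable group. -/
theorem not_isSolvable_of_chkPerfect {k : List (List Bool)} {wit : List (List ℕ × List ℕ)}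
    (h : chkPerfect k wit = true) :
    ¬ Group.IsSolvable (Subgroup.closure {g : A9 | ∃ w ∈ k, evalW w = g}) := by
  set E : Subgroup A9 := Subgroup.closure {g : A9 | ∃ w ∈ k, evalW w = g}
  simp only [chkPerfect, Bool.and_eq_true, decide_eq_true_eq, List.all_eq_true] at h
  obtain ⟨⟨hlen, hall⟩, hne⟩ := h
  have hev : ∀ l : List ℕ, evalW ((l.map fun i => k.getD i []).flatten) ∈ E := by
    intro l
    induction l with
    | nil => exact one_mem E
    | cons i l ih =>
      rw [List.map_cons, List.flatten_cons, evalW_append]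
      refine mul_mem ?_ ih
      by_cases hi : i < k.length
      · exact Subgroup.subset_closure ⟨_, by
          rw [List.getD_eq_getElem _ _ hi]; exact List.getElem_mem hi, rfl⟩
      · rw [List.getD_eq_default _ _ (by omega)]; exact one_mem E
  have hgen : ∀ w ∈ k, evalW w ∈ ⁅E, E⁆ := by
    intro w hw
    obtain ⟨i, hi, rfl⟩ := List.getElem_of_mem hw
    have hp := hall (k[i], wit[i]'(hlen ▸ hi)) (by
      rw [← List.getElem_zip (h := by simp [← hlen, hi])]; exact List.getElem_mem _)
    have he := Nat.eq_of_beq_eq_true hp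
    simp only [wordC_eq, enc_mul] at he
    have e := enc_injective he
    generalize evalW ((((wit[i]'(hlen ▸ hi)).1).map fun i => k.getD i []).flatten) = x,
      hev (wit[i]'(hlen ▸ hi)).1 = hx at e
    generalize evalW ((((wit[i]'(hlen ▸ hi)).2).map fun i => k.getD i []).flatten) = y,
      hev (wit[i]'(hlen ▸ hi)).2 = hy at e
    have : evalW k[i] = x * y * x⁻¹ * y⁻¹ := by
      rw [← e]
      group
    rw [this, ← commutatorElement_def]
    exact Subgroup.commutator_mem_commutator hx hy
  have heq : ⁅E, E⁆ = E := by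
    refine le_antisymm ((Subgroup.commutator_le).2 fun a ha b hb => ?_) ?_
    · rw [commutatorElement_def]
      exact mul_mem (mul_mem (mul_mem ha hb) (inv_mem ha)) (inv_mem hb)
    · rw [Subgroup.closure_le]; rintro _ ⟨w, hw, rfl⟩; exact hgen w hw
  intro hs
  haveI := hs
  match hk : k with
  | [] => simp [hk] at hne
  | w :: l =>
    subst hk
    have hmem : evalW w ∈ E := Subgroup.subset_closure ⟨w, List.mem_cons_self .., rfl⟩
    by_cases hE : E = ⊥
    · rw [hE, Subgroup.mem_bot] at hmem
      simp only [wordC_eq, hmem, enc_one] at hne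
      simp at hne
    · haveI : Nontrivial E := (Subgroup.nontrivial_iff_ne_bot E).2 hE
      refine (Group.IsSolvable.commutator_lt_of_ne_bot (G := E) (H := ⊤) top_ne_bot).ne ?_
      refine Subgroup.map_injective E.subtype_injective ?_
      rw [Subgroup.map_commutator, ← MonoidHom.range_eq_map, Subgroup.range_subtype, heq]

/-- One step up a series of two-groups: the next generator squares into and normalises the group
generated by the previous ones. -/
def chkStep (gs : List (List Bool)) (x : List Bool) (sq : List ℕ) (cj : List (List ℕ)) : Bool :=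
  let ev : List ℕ → List Bool := fun l => (l.map fun i => gs.getD i []).flatten
  decide (gs.length = cj.length) && Nat.beq (mulC (wordC x) (wordC x)) (wordC (ev sq)) &&
    (gs.zip cj).all fun p => Nat.beq (mulC (wordC p.1) (wordC x)) (mulC (wordC x) (wordC (ev p.2)))

/-- A non-trivial vector fixed by the next group of the series. -/
theorem exists_fixed_step (h2 : ∀ v : V, v * v = 1) {gs : List (List Bool)} {x : List Bool}
    {sq : List ℕ} {cj : List (List ℕ)} (h : chkStep gs x sq cj = true)
    (hv : ∃ v : V, v ≠ 1 ∧ ∀ w ∈ gs, ρ (evalW w) v = v) :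
    ∃ v : V, v ≠ 1 ∧ ∀ w ∈ gs ++ [x], ρ (evalW w) v = v := by
  obtain ⟨v, hv1, hv⟩ := hv
  simp only [chkStep, Bool.and_eq_true, decide_eq_true_eq, List.all_eq_true] at h
  obtain ⟨⟨hlen, hsq⟩, hcj⟩ := h
  have hev : ∀ l : List ℕ, ρ (evalW ((l.map fun i => gs.getD i []).flatten)) v = v := by
    intro l
    induction l with
    | nil => simp [evalW]
    | cons i l ih =>
      rw [List.map_cons, List.flatten_cons, evalW_append, map_mul, MulAut.mul_apply, ih]
      by_cases hi : i < gs.length
      · exact hv _ (by rw [List.getD_eq_getElem _ _ hi]; exact List.getElem_mem hi)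
      · rw [List.getD_eq_default _ _ (by omega)]; simp [evalW]
  by_cases hx : ρ (evalW x) v = v
  · refine ⟨v, hv1, fun w hw => ?_⟩
    rcases List.mem_append.1 hw with hw | hw
    · exact hv w hw
    · rw [List.mem_singleton.1 hw]; exact hx
  refine ⟨v * ρ (evalW x) v, fun e => hx ?_, fun w hw => ?_⟩
  · exact (eq_inv_of_mul_eq_one_right e).trans (inv_eq_of_mul_eq_one_right (h2 v))
  rw [map_mul]
  rcases List.mem_append.1 hw with hw | hw
  · obtain ⟨i, hi, rfl⟩ := List.getElem_of_mem hw
    have hp := hcj (gs[i], cj[i]'(hlen ▸ hi)) (by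
      rw [← List.getElem_zip (h := by simp [← hlen, hi])]; exact List.getElem_mem _)
    have he := Nat.eq_of_beq_eq_true hp
    simp only [wordC_eq, enc_mul] at he
    rw [hv _ (List.getElem_mem hi), ← MulAut.mul_apply, ← map_mul, enc_injective he, map_mul,
      MulAut.mul_apply, hev]
  · rw [List.mem_singleton.1 hw]
    have he := Nat.eq_of_beq_eq_true hsq
    simp only [wordC_eq, enc_mul] at he
    rw [rho_mul_apply ρ (evalW x) (evalW x), enc_injective he, hev, mul_comm]

end CfsgLib.AltSolvCent.Two
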