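import Cfsg.Agent.Lib.AltSolvCent.TwoFramework

/-!
Generators of the non-solvable subgroups of `A_9` used by the certificates, and of the groups
of the chain. Machine written.
-/

set_option autoImplicit false

namespace CfsgLib.AltSolvCent.Two

/-- Generators of non-solvable subgroups. -/
def perfectKinds : List (List (List Bool)) :=
  [[bw 2, bw 4086],
   [bw 4086, bw 823972],
   [bw 8172, bw 206052],
   [bw 16058, bw 11860861, bw 87357],
   [bw 16058, bw 47443444, bw 162134],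
   [bw 7807, bw 16211],
   [bw 15614, bw 16211],
   [bw 7807, bw 55500267],
   [bw 15614, bw 24432076],
   [bw 16058, bw 11860861, bw 1873900],
   [bw 16058, bw 47443444, bw 2780797]]

/-- Each generator as a commutator. -/
def perfectWit : List (List (List ℕ × List ℕ)) :=
  [[([0, 0], [1, 1, 0, 0, 1, 0, 1]), ([0], [0, 1, 0, 1])],
   [([0, 0, 0], [1, 0, 0, 1, 0, 0, 0, 1]), ([0, 1, 0, 0, 0], [1, 0, 0, 0, 1, 0])],
   [([0, 0, 0], [1, 0, 0, 1, 0, 0, 0, 1]), ([0, 1, 0, 0, 0], [1, 0, 0, 0, 1, 0])],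
   [([1], [1, 0, 1, 0]), ([1, 1], [2, 1, 1, 1, 1, 2, 1, 1, 2]), ([1, 1, 2, 1, 1, 1, 1], [1, 2, 1, 1, 1, 2, 1, 1])],
   [([1], [1, 0, 1, 0]), ([1, 1], [2, 1, 1, 1, 1, 2, 1, 1, 2]), ([1, 1, 2, 1, 1, 1, 1], [1, 2, 1, 1, 1, 2, 1, 1])],
   [([0, 0], [1, 0, 1, 0, 0, 0, 0, 1]), ([0, 1, 0, 0, 0, 0], [0, 1, 0, 0, 0, 0, 1])],
   [([0, 0], [1, 0, 1, 0, 0, 0, 0, 1]), ([0, 1, 0, 0, 0, 0], [0, 1, 0, 0, 0, 0, 1])],
   [([0, 0], [1, 0, 0, 0, 0, 1, 0, 0, 1]), ([0, 0, 1, 0, 0, 0, 0], [0, 1, 0, 0, 0, 1, 0, 0])],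
   [([0, 0], [1, 0, 0, 0, 0, 1, 0, 0, 1]), ([0, 0, 1, 0, 0, 0, 0], [0, 1, 0, 0, 0, 1, 0, 0])],
   [([1], [1, 0, 1, 0]), ([2], [1, 1, 1]), ([0, 1, 0], [0, 1, 1, 0, 2])],
   [([1], [1, 0, 1, 0]), ([2], [1, 1, 1]), ([0, 1, 0], [0, 1, 1, 0, 2])]]

/-- Generators of a group of the chain. -/
def gensM : List (List Bool) := [bw 4015, bw 15951, bw 11575, bw 6847, bw 3069, bw 63231, bw 2015]

/-- Generators of a group of the chain. -/
def gensP : List (List Bool) := [bw 4015, bw 15951, bw 11575, bw 6847, bw 3069, bw 63231, bw 16275]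

/-- Generators of a group of the chain. -/
def gensQ : List (List Bool) := [bw 4015, bw 15951, bw 11575, bw 6847, bw 3069, bw 63231, bw 13979]

/-- Generators of a group of the chain. -/
def gensR : List (List Bool) := [bw 4015, bw 15951, bw 11575, bw 6847, bw 3069, bw 63231, bw 43679]

/-- Generators of a group of the chain. -/
def gensU : List (List Bool) := [bw 4015, bw 15951, bw 11575, bw 6847, bw 3069, bw 63231]

/-- The series of two-groups. -/
def seriesU : List (List Bool × List ℕ × List (List ℕ)) :=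
  [(bw 4015, [], []),
   (bw 15951, [], [[0]]),
   (bw 11575, [], [[0], [1, 0]]),
   (bw 6847, [], [[0], [1, 0], [2]]),
   (bw 3069, [], [[0], [1], [3], [2]]),
   (bw 63231, [], [[3, 2], [4], [2], [2, 0], [1]])]

theorem perfectKinds_check : (perfectKinds.zip perfectWit).all (fun p => chkPerfect p.1 p.2) = true := by
  decide +kernel

end CfsgLib.AltSolvCent.Two
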