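import Cfsg.Agent.Lib.AltSolvCent.CertM
import Cfsg.Agent.Lib.AltSolvCent.CertP
import Cfsg.Agent.Lib.AltSolvCent.CertQ
import Cfsg.Agent.Lib.AltSolvCent.CertR
import Cfsg.Agent.Lib.AltSolvCent.CertU
import Cfsg.Agent.Lib.AltSolvCent.Reduction

/-!
In every elementary abelian two-group on which `A_9` acts non-trivially, a non-solvable subgroup
fixes a non-identity element.
-/

set_option autoImplicit false

namespace CfsgLib.AltSolvCent.Two

universe u

variable {V : Type u} [CommGroup V] (ρ : A9 →* MulAut V)

lemma exists_fixed_series (h2 : ∀ v : V, v * v = 1) :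
    ∀ (rest : List (List Bool × List ℕ × List (List ℕ))) (gs : List (List Bool)),
      (∃ v : V, v ≠ 1 ∧ ∀ w ∈ gs, ρ (evalW w) v = v) →
      (∀ i : ℕ, ∀ h : i < rest.length,
        chkStep (gs ++ (rest.take i).map Prod.fst) rest[i].1 rest[i].2.1 rest[i].2.2 = true) →
      ∃ v : V, v ≠ 1 ∧ ∀ w ∈ gs ++ rest.map Prod.fst, ρ (evalW w) v = v
  | [], gs, hv, _ => by simpa using hv
  | (x, sq, cj) :: rest, gs, hv, h => by
    have h0 := h 0 (by simp)
    simp only [List.take_zero, List.map_nil, List.append_nil, List.getElem_cons_zero] at h0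
    have := exists_fixed_series h2 rest (gs ++ [x]) (exists_fixed_step ρ h2 h0 hv) fun i hi => by
      have h1 := h (i + 1) (by simpa using hi)
      simpa [List.append_assoc] using h1
    simpa [List.append_assoc] using this

theorem seriesU_check :
    (List.range seriesU.length).all (fun i =>
      chkStep ((seriesU.take i).map Prod.fst) (seriesU.getD i ([], [], [])).1
        (seriesU.getD i ([], [], [])).2.1 (seriesU.getD i ([], [], [])).2.2) = true ∧
      seriesU.map Prod.fst = gensU ∧ perfectKinds.length = perfectWit.length ∧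
      (perfectKinds ++ [gensM, gensP, gensQ, gensR]).all (fun k => !k.isEmpty) = true := by
  decide +kernel

/-- The module property for the prime two. -/
theorem fixedVectorProp_two : FixedVectorProp.{u} 2 (4 + 5) := by
  intro V _ _ hnt hexp ρ _
  classical
  by_contra hcon
  push Not at hcon
  have h2 : ∀ v : V, v * v = 1 := fun v => by rw [← pow_two]; exact hexp v
  obtain ⟨hser, hfst, hlen, hne⟩ := seriesU_check
  have hperf : ∀ k ∈ perfectKinds, Kills ρ k := by
    intro k hk v hv
    by_contra hv1
    obtain ⟨i, hi, rfl⟩ := List.getElem_of_mem hk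
    have hz := List.all_eq_true.1 perfectKinds_check (perfectKinds[i], perfectWit[i]'(hlen ▸ hi)) (by
      rw [← List.getElem_zip (h := by simp [← hlen, hi])]; exact List.getElem_mem _)
    obtain ⟨g, hg, hgv⟩ := hcon _ (not_isSolvable_of_chkPerfect hz) v hv1
    refine hgv ?_
    refine Subgroup.closure_induction (p := fun g _ => ρ g v = v) ?_ ?_ ?_ ?_ hg
    · rintro x ⟨w, hw, rfl⟩; exact hv w hw
    · simp
    · intro a b _ _ ha hb; rw [map_mul, MulAut.mul_apply, hb, ha]
    · intro a _ ha
      conv_lhs => rw [← ha]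
      rw [← MulAut.mul_apply, ← map_mul, inv_mul_cancel, map_one, MulAut.one_apply]
  have hnon : ∀ k ∈ perfectKinds ++ [gensM, gensP, gensQ, gensR], k ≠ [] := fun k hk e => by
    have := List.all_eq_true.1 hne k hk
    simp [e] at this
  have hkinds : ∀ (extra : List (List (List Bool))),
      (∀ k ∈ extra, k ∈ [gensM, gensP, gensQ, gensR]) → (∀ k ∈ extra, Kills ρ k) →
      ∀ k ∈ perfectKinds ++ extra, k ≠ [] ∧ Kills ρ k := by
    intro extra hin hkill k hk
    rcases List.mem_append.1 hk with h | h
    · exact ⟨hnon k (List.mem_append_left _ h), hperf k h⟩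
    · exact ⟨hnon k (List.mem_append_right _ (hin k h)), hkill k h⟩
  have hM : Kills ρ gensM := certM.sound ρ perfectKinds certM_check h2 fun k hk =>
    ⟨hnon k (List.mem_append_left _ hk), hperf k hk⟩
  have hP : Kills ρ gensP := certP.sound ρ _ certP_check h2
    (hkinds [gensM] (by simp) (by simpa using hM))
  have hQ : Kills ρ gensQ := certQ.sound ρ _ certQ_check h2
    (hkinds [gensM, gensP] (by simp) (by simp [hM, hP]))
  have hR : Kills ρ gensR := certR.sound ρ _ certR_check h2
    (hkinds [gensM, gensP, gensQ] (by simp) (by simp [hM, hP, hQ]))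
  have hU : Kills ρ gensU := certU.sound ρ _ certU_check h2
    (hkinds [gensM, gensP, gensQ, gensR] (by simp) (by simp [hM, hP, hQ, hR]))
  obtain ⟨v₀, hv₀⟩ := exists_ne (1 : V)
  obtain ⟨v, hv1, hv⟩ := exists_fixed_series ρ h2 seriesU [] ⟨v₀, hv₀, by simp⟩ fun i hi => by
    have := List.all_eq_true.1 hser i (List.mem_range.2 hi)
    simpa [List.getElem?_eq_getElem hi] using this
  exact hv1 (hU v fun w hw => hv w (by simpa [← hfst] using hw))

end CfsgLib.AltSolvCent.Two
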